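import Cfsg.Agent.Lib.Sporadic.RuRank.Classes
import Cfsg.Agent.Lib.Sporadic.OutCert.GraphCert

/-!
The group of all permutations of the 4060 lines preserving orthogonality has at most the order of the
Rudvalis group.
-/

set_option autoImplicit false
set_option maxRecDepth 100000

namespace CfsgLib.Sporadic.RuRank

open CfsgLib.Sporadic.OutCert
open CfsgLib.KnownC.RuGroup (orthK titS tl tl_inj)
open scoped Classical

attribute [local irreducible] lk pkF allF compK oneK steps mask0 clsM repW autR autN titS popW orthK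

/-- The automorphisms of the graph. -/
noncomputable def presGrp : Subgroup P := pairStab orthK

theorem mem_presGrp {g : P} : g ∈ presGrp ↔ ∀ x y, orthK (g x : ℕ) (g y : ℕ) = orthK x y := Iff.rfl

/-- The automorphisms fixing the first line and the first base points. -/
noncomputable def baseFix (j : ℕ) : Subgroup P :=
  presGrp ⊓ fixingSubgroup P ({(0 : Fin 4060)} ∪ {x | ∃ r ∈ autR.take j, ∃ i : Fin 1755, (i : ℕ) = ptAt r ∧ tl i = x})

theorem mem_baseFix {j : ℕ} {g : P} : g ∈ baseFix j ↔
    g ∈ presGrp ∧ g 0 = 0 ∧ ∀ r ∈ autR.take j, ∀ i : Fin 1755, (i : ℕ) = ptAt r → g (tl i) = tl i := by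
  rw [baseFix, Subgroup.mem_inf, mem_fixingSubgroup_iff]
  constructor
  · rintro ⟨h, h'⟩
    exact ⟨h, h' 0 (Or.inl rfl), fun r hr i hi => h' _ (Or.inr ⟨r, hr, i, hi, rfl⟩)⟩
  · rintro ⟨h, h0, h'⟩
    refine ⟨h, ?_⟩
    rintro x (rfl | ⟨r, hr, i, hi, rfl⟩)
    exacts [h0, h' r hr i hi]

theorem aut_lt {r : ℕ} (hr : r ∈ autR) : r < repW.length := by simpa using List.all_eq_true.1 aut_ok.1 r hr

theorem baseFix_end : baseFix autR.length = ⊥ := by
  refine (Subgroup.eq_bot_iff_forall _).2 fun g hg => ?_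
  obtain ⟨h1, -, h3⟩ := mem_baseFix.1 hg
  refine Equiv.ext fun v => key_injective fun q hq => ?_
  obtain ⟨i, rfl, hi⟩ := sep_facts hq
  have h := List.all_eq_true.1 aut_ok.2.2.2.2 (tl i : ℕ) hq
  simp only [List.any_eq_true, Nat.beq_eq] at h
  obtain ⟨r, hr, he⟩ := h
  have hfix := h3 r (by rw [List.take_length]; exact hr) i (hi.trans he.symm)
  have hp := mem_presGrp.1 h1 v (tl i)
  rw [hfix] at hp
  exact hp

/-- An automorphism fixing the first line permutes the points. -/
theorem exists_local {g : P} (hg : g ∈ presGrp) (h0 : g 0 = 0) :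
    ∃ σ : L, (∀ i, tl (σ i) = g (tl i)) ∧ ∀ i j, Alj (σ i) (σ j) ↔ Alj i j := by
  have hmap : ∀ i, ∃ j, tl j = g (tl i) := fun i => exists_nb (by
    have h := mem_presGrp.1 hg 0 (tl i)
    rw [h0] at h
    exact h.trans (adj_tl i))
  choose f hf using hmap
  have hbij : Function.Bijective f := Finite.injective_iff_bijective.1 fun i j e =>
    tl_inj (g.injective (by rw [← hf, ← hf, e]))
  refine ⟨Equiv.ofBijective f hbij, hf, fun i j => ?_⟩
  show orthK (tl (f i) : ℕ) (tl (f j) : ℕ) = true ↔ orthK (tl i : ℕ) (tl j : ℕ) = true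
  rw [hf, hf, mem_presGrp.1 hg]

theorem card_baseFix_succ {j : ℕ} (hj : j < autR.length) :
    Nat.card (baseFix j) ≤ autN.getD j 0 * Nat.card (baseFix (j + 1)) := by
  have hmem : autR.getD j 0 ∈ autR := by rw [List.getD_eq_getElem _ _ hj]; exact List.getElem_mem _
  let b : Fin 1755 := ptP (aut_lt hmem)
  let F := baseFix j
  rw [← (MulAction.stabilizer F (tl b)).card_mul_index, MulAction.index_stabilizer, mul_comm]
  refine Nat.mul_le_mul ?_ (le_of_eq ?_)
  · have hsub : MulAction.orbit F (tl b) ⊆ ↑((Finset.univ.filter fun x : Fin 1755 =>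
        ((autR.take j).all fun r => Nat.beq (relK r x) (relK r (ptAt (autR.getD j 0)))) = true).image tl) := by
      rintro _ ⟨⟨g, hg⟩, rfl⟩
      obtain ⟨h1, h2, h3⟩ := mem_baseFix.1 hg
      obtain ⟨σ, hσ, hσa⟩ := exists_local h1 h2
      rw [Finset.coe_image]
      refine ⟨σ b, ?_, hσ b⟩
      simp only [Finset.coe_filter, Finset.mem_univ, true_and, Set.mem_ofPred_eq, List.all_eq_true, Nat.beq_eq]
      intro r hr
      have hr' := aut_lt (List.mem_of_mem_take hr)
      exact relK_perm hr' hσa (tl_inj ((hσ _).trans (h3 r hr _ rfl))) b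
    refine (Set.ncard_le_ncard hsub (Set.toFinite _)).trans ?_
    rw [Set.ncard_coe_finset]
    refine Finset.card_image_le.trans (le_of_eq ?_)
    rw [card_filter_range (b := fun x => (autR.take j).all fun r => Nat.beq (relK r x) (relK r (ptAt (autR.getD j 0))))
      fun x => Iff.rfl]
    exact Nat.eq_of_beq_eq_true (List.all_eq_true.1 aut_ok.2.2.1 j (List.mem_range.2 hj))
  · have hiff : ∀ g : P, g ∈ baseFix (j + 1) ↔ g ∈ F ∧ g (tl b) = tl b := by
      intro g
      rw [mem_baseFix, mem_baseFix, List.take_succ_eq_append_getElem hj]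
      constructor
      · rintro ⟨h1, h0, h2⟩
        refine ⟨⟨h1, h0, fun r hr => h2 r (List.mem_append_left _ hr)⟩, h2 (autR.getD j 0) (List.mem_append_right _ ?_) b rfl⟩
        rw [List.getD_eq_getElem _ _ hj]; exact List.mem_singleton_self _
      · rintro ⟨⟨h1, h0, h2⟩, h3⟩
        refine ⟨h1, h0, fun r hr i hi => ?_⟩
        rcases List.mem_append.1 hr with hr | hr
        · exact h2 r hr i hi
        · rw [List.mem_singleton, ← List.getD_eq_getElem _ 0 hj] at hr
          subst hr
          rw [show i = b from Fin.ext hi]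
          exact h3
    exact Nat.card_congr
      { toFun := fun g => ⟨((g : F) : P), (hiff _).2 ⟨(g : F).2, g.2⟩⟩
        invFun := fun g => ⟨⟨g, ((hiff _).1 g.2).1⟩, ((hiff _).1 g.2).2⟩
        left_inv := fun _ => rfl
        right_inv := fun _ => rfl }

theorem card_baseFix : ∀ (m j : ℕ), j + m = autR.length → Nat.card (baseFix j) ≤ (autN.drop j).prod
  | 0, j, h => by
    rw [Nat.add_zero] at h
    rw [h, baseFix_end, Subgroup.card_bot, List.drop_eq_nil_of_le (by rw [aut_ok.2.1]), List.prod_nil]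
  | m + 1, j, h => by
    have hj : j < autR.length := by omega
    have hj' : j < autN.length := by rw [← aut_ok.2.1]; exact hj
    refine (card_baseFix_succ hj).trans ?_
    rw [List.drop_eq_getElem_cons hj', List.prod_cons, List.getD_eq_getElem _ _ hj']
    exact Nat.mul_le_mul_left _ (card_baseFix m (j + 1) (by omega))

theorem card_presGrp : Nat.card presGrp ≤ 145926144000 := by
  let S0 := MulAction.stabilizer presGrp (0 : Fin 4060)
  rw [← S0.card_mul_index, MulAction.index_stabilizer]
  have h := card_baseFix autR.length 0 (by omega)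
  rw [List.drop_zero, aut_ok.2.2.2.1] at h
  have hmem : ∀ g : S0, ((g : presGrp) : P) ∈ baseFix 0 := fun g =>
    mem_baseFix.2 ⟨(g : presGrp).2, g.2, fun r hr => by simp at hr⟩
  let f : S0 → baseFix 0 := fun g => ⟨((g : presGrp) : P), hmem g⟩
  have h1 : Nat.card S0 ≤ 35942400 :=
    (Nat.card_le_card_of_injective f fun g k e =>
      Subtype.ext (Subtype.ext (congrArg (fun z : baseFix 0 => (z : P)) e))).trans h
  have h2 : (MulAction.orbit presGrp (0 : Fin 4060)).ncard ≤ 4060 :=
    le_of_le_of_eq (Set.ncard_le_ncard (Set.subset_univ _) (Set.toFinite _)) (by rw [Set.ncard_univ, Nat.card_fin])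
  exact (Nat.mul_le_mul h1 h2).trans (by norm_num)

theorem permRu_le : CfsgLib.KnownC.RuGroup.permRu ≤ presGrp := fun _g hg => pres_mem hg

theorem card_permRu : Nat.card CfsgLib.KnownC.RuGroup.permRu = 145926144000 := by
  rw [← (MulAction.stabilizer CfsgLib.KnownC.RuGroup.permRu (0 : Fin 4060)).card_mul_index,
    MulAction.index_stabilizer_of_transitive, CfsgLib.KnownC.RuGroup.card_stab, Nat.card_fin]

theorem eq_permRu (G' : Subgroup P) (hle : G' ≤ presGrp) (hcard : Nat.card G' = 145926144000) :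
    G' = CfsgLib.KnownC.RuGroup.permRu :=
  (Subgroup.eq_of_le_of_card_ge hle (card_presGrp.trans_eq hcard.symm)).trans
    (Subgroup.eq_of_le_of_card_ge permRu_le (card_presGrp.trans_eq card_permRu.symm)).symm

end CfsgLib.Sporadic.RuRank
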