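import Cfsg.Agent.Lib.Sporadic.RuRank.Defs

/-!
Checks on the classes at listed points and on the base of the automorphism group.
-/

set_option autoImplicit false
set_option maxRecDepth 100000
set_option maxHeartbeats 0
set_option Elab.async false

namespace CfsgLib.Sporadic.RuRank

open CfsgLib.KnownC.RuGroup (titP titS)

theorem cls_ok : ((List.range repW.length).all clsOK) = true ∧ clsM.length = repW.length := by decide +kernel

theorem aut_ok : (autR.all fun r => Nat.blt r repW.length) = true ∧ autR.length = autN.length ∧
    ((List.range autR.length).all fun j => Nat.beq (candK j) (autN.getD j 0)) = true ∧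
    autN.prod = 35942400 ∧
    (titS.all fun q => autR.any fun r => Nat.beq (ptAt r) (titP q)) = true := by decide +kernel

end CfsgLib.Sporadic.RuRank
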