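import Cfsg.Agent.Lib.Sporadic.RuRank.Defs

/-!
Checks on the distant lines.
-/

set_option autoImplicit false
set_option maxRecDepth 100000
set_option maxHeartbeats 0
set_option Elab.async false

namespace CfsgLib.Sporadic.RuRank

open CfsgLib.Sporadic.OutCert
open CfsgLib.KnownC.RuGroup (orthK)

theorem farMask_ok : allF (fun v => Nat.testBit farMask v == (!Nat.beq v 0 && !orthK 0 v)) 4060 = true ∧
    (List.range 4060).countP (fun v => Nat.testBit farMask v) = 2304 ∧ Nat.testBit farMask far0 = true ∧
    Nat.blt far0 4060 = true := by
  decide +kernel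

theorem farAll_ok : farTreeK ((List.range 4).map fun x => (x, genInv.getD x 0)) farAll (2 ^ far0) = true ∧
    treeMask 12 far0 farAll = farMask := by decide +kernel

theorem farFix_ok : (farG.all fun e => farMapK e.2 far0 far0) = true := by decide +kernel

theorem farT_ok : farB.length = 5 ∧ farT.length = 5 ∧
    ((List.range 5).all fun k => Nat.testBit farMask (farB.getD k 0) &&
      farTreeK farG (farT.getD k []) (2 ^ farB.getD k 0)) = true ∧
    (List.range 5).foldl (fun s k => s ||| farOrb k) (2 ^ far0) = farMask ∧
    ((List.range 5).map fun k => (List.range 4060).countP fun v => Nat.testBit (farOrb k) v) = [78, 300, 300, 650, 975] ∧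
    allF (fun v => !Nat.testBit farMask v || orthK far0 v == Nat.testBit (farOrb 4) v) 4060 = true := by
  decide +kernel

theorem farT_disj : ((List.range 5).all fun k => (List.range 5).all fun l =>
    Nat.beq k l || Nat.beq (Nat.land (farOrb k) (farOrb l)) 0) = true := by decide +kernel

theorem farMask_lt : farMask < 2 ^ 4060 := by decide +kernel

end CfsgLib.Sporadic.RuRank
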