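import Cfsg.Agent.Lib.Sporadic.RuRank.Defs

/-!
Checks on the named elements.
-/

set_option autoImplicit false
set_option maxRecDepth 100000
set_option maxHeartbeats 0
set_option Elab.async false

namespace CfsgLib.Sporadic.RuRank

open CfsgLib.Sporadic.OutCert
open CfsgLib.Schur.Sporadic.Tits (genK)

theorem slp_ok : slpCheck 11 1755 genK steps = true ∧ genK.length = 4 := by decide +kernel

theorem names_ok : ([yI, zI] ++ genInv ++ jG ++ farG.map Prod.fst ++ farG.map Prod.snd).all (fun i => Nat.blt i numEl) = true ∧
    (nR.all fun l => l.all fun i => Nat.blt i numEl) = true ∧ nR.length = 16 ∧ nR.getD 0 [] = [] ∧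
    ((List.range 16).all fun t => Nat.beq t 0 || Nat.beq (nR.getD t []).length 1) = true ∧ genInv.length = 4 := by
  decide +kernel

theorem inv_ok : ((List.range 4).all fun x => sameL [x, genInv.getD x 0] []) = true ∧
    (farG.all fun e => sameL [e.1, e.2] []) = true := by decide +kernel

theorem y_ok : sameL (List.replicate 5 yI) [] = true ∧ sameL (List.replicate 5 zI) [] = true ∧
    sameL [yI, zI] [zI, yI] = true ∧ appL [yI] 0 = 0 ∧ Nat.beq (appL [yI] 1) 1 = false ∧
    Nat.beq (appL [zI] 0) 0 = false ∧
    allF (fun x => Nat.beq (appL [yI] x) x == (List.range 5).any fun i => Nat.beq (appL (List.replicate i zI) 0) x) 1755 = true := by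
  decide +kernel

theorem jG_ok : (jG.all fun g => Nat.beq (appL [g] 0) 0) = true ∧
    ((List.range 16).all fun t => Nat.beq (appL (nR.getD t []) 0) 0) = true ∧
    (conjW.all fun w => w.all fun g => jG.any fun h => Nat.beq g h) = true ∧
    conjW.length = 17 ∧
    (conjW.map fun w => (List.range 5).foldl (fun m i => m ||| 2 ^ appL w (appL (List.replicate i zI) 0)) 0).Nodup := by
  decide +kernel

theorem tab_ok : ((List.range 16).all fun s => (List.range 16).all fun t =>
    let e := (nTab.getD s []).getD t (0, 0)
    Nat.blt e.1 16 && Nat.blt e.2 5 &&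
      sameL (nR.getD s [] ++ nR.getD t []) (nR.getD e.1 [] ++ List.replicate e.2 yI)) = true := by decide +kernel

theorem norm_ok : ((List.range 16).all fun t => Nat.blt (nA.getD t 0) 5 &&
    sameL (nR.getD t [] ++ [yI]) (List.replicate (nA.getD t 0) yI ++ nR.getD t []) &&
    (cond (Nat.beq (nA.getD t 0) 1)
      (sameL (nR.getD t [] ++ [zI])
        (List.replicate (nZ.getD t (0, 0)).2 zI ++ List.replicate (nZ.getD t (0, 0)).1 yI ++ nR.getD t []))
      (!sameL (nR.getD t [] ++ [yI]) ([yI] ++ nR.getD t [])))) = true := by decide +kernel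

theorem sep80_ok : ((List.range 80).map fun m =>
    nSep.map fun q => appL (nR.getD (m / 5) [] ++ List.replicate (m % 5) yI) q).Nodup ∧
    (nSep.all fun q => Nat.blt q 1755) = true := by decide +kernel

theorem subsets_ok : ((List.range 16).all fun a => (List.range 16).all fun b => (List.range 16).all fun c =>
    !(Nat.blt 0 a && (Nat.blt a b && (Nat.blt b c && closedK [a, b, c]))) ||
      (List.range xL.length).any fun X => (xL.getD X ([], [])).1 == [a, b, c]) = true ∧ xL.length = 7 ∧
    (xL.all fun e => e.2.all fun t => Nat.blt 0 t && Nat.blt t 16 && e.1.any fun u => Nat.beq t u) = true := by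
  decide +kernel

end CfsgLib.Sporadic.RuRank
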