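import Cfsg.Agent.Lib.Sporadic.RuRank.Defs

/-!
Checks on the local graph.
-/

set_option autoImplicit false
set_option maxRecDepth 100000
set_option maxHeartbeats 0
set_option Elab.async false

namespace CfsgLib.Sporadic.RuRank

open CfsgLib.Sporadic.OutCert
open CfsgLib.KnownC.RuGroup (orthK)

theorem locAll_ok : treeK [0, 1, 2, 3] locAll 1 = true ∧ treeMask 11 0 locAll = fullM := by decide +kernel

theorem near_ok : nearB.length = 4 ∧ nearT.length = 4 ∧ nearB.getD 3 0 = awayI ∧
    ((List.range 4).all fun k => Nat.blt (nearB.getD k 0) 1755 &&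
      treeK jG (nearT.getD k []) (2 ^ nearB.getD k 0)) = true ∧
    ((List.range 3).all fun k => Nat.beq (treeMask 11 (nearB.getD k 0) (nearT.getD k [])) (mask0At k)) = true ∧
    Nat.lor (Nat.lor (mask0At 0) (mask0At 1)) (Nat.lor (mask0At 2) (treeMask 11 awayI (nearT.getD 3 []))) = fullM - 1 := by
  decide +kernel

theorem com_ok : ((List.range 4).all fun k =>
      aljK 0 (nearB.getD k 0) == Nat.blt k 3 &&
      Nat.beq ((List.range 1755).countP fun r => aljK 0 r && aljK (nearB.getD k 0) r) (comVal k)) = true ∧
    ((List.range 3).map fun k => popW (mask0At k)) = [10, 80, 640] ∧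
    popW (treeMask 11 awayI (nearT.getD 3 [])) = 1024 ∧ aljK 0 0 = false ∧ orthK 0 0 = false := by decide +kernel

theorem comM_ok : allF (fun r => Nat.testBit comM r == (aljK 0 r && aljK awayI r)) 1755 = true ∧
    ((List.range 3).all fun k => Nat.beq (popW (Nat.land (mask0At k) comM)) (nuVal k)) = true ∧
    Nat.beq (Nat.land comM fullM) comM = true := by decide +kernel

theorem quad_ok : allF (fun r => !Nat.testBit comM r ||
    !Nat.beq ((List.range 1755).countP fun s => Nat.testBit comM s && aljK r s) 130) 1755 = true := by decide +kernel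

end CfsgLib.Sporadic.RuRank
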