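import Cfsg.Agent.Lib.Sporadic.RuRank.Defs

/-!
Checks on the searches for the neighbours of a distant line.
-/

set_option autoImplicit false
set_option maxRecDepth 100000
set_option maxHeartbeats 0
set_option Elab.async false

namespace CfsgLib.Sporadic.RuRank

theorem orb_ok : ((List.range 7).all fun X =>
    Nat.beq (qR.getD X []).length (qM.getD X []).length && Nat.beq (qT.getD X []).length (qM.getD X []).length &&
    (List.range (qM.getD X []).length).all fun o =>
      Nat.blt ((qR.getD X []).getD o 0) repW.length &&
      treeK (qGens X) ((qT.getD X []).getD o []) (2 ^ ptAt ((qR.getD X []).getD o 0)) &&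
      Nat.beq (treeMask 11 (ptAt ((qR.getD X []).getD o 0)) ((qT.getD X []).getD o [])) (orbAt X o)) = true := by
  decide +kernel

theorem root_ok : ((List.range 7).all fun X =>
    Nat.blt (qF.getD X 0) (qM.getD X []).length && Nat.testBit (orbAt X (qF.getD X 0)) 0) = true := by
  decide +kernel

theorem search_ok : ((List.range 7).all fun X =>
    searchK X (qS.getD X []) [(orbAt X (qF.getD X 0), fullM)]) = true := by decide +kernel

theorem sol_ok : ((List.range solM.length).all solOK) = true := by decide +kernel

end CfsgLib.Sporadic.RuRank
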