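import Cfsg.Agent.Lib.Sporadic.RuRank.Local
import Cfsg.Agent.Lib.Sporadic.RuRank.CheckCls

/-!
The classes at the listed points.
-/

set_option autoImplicit false
set_option maxRecDepth 100000

namespace CfsgLib.Sporadic.RuRank

open CfsgLib.Sporadic.OutCert
open scoped Classical

attribute [local irreducible] lk pkF allF compK oneK steps mask0 clsM repW popW aljK

theorem rep_facts {r : ℕ} (hr : r < repW.length) : ∃ g : K, ptAt r < 1755 ∧ (loc g 0 : ℕ) = ptAt r ∧
    ∀ k < 3, ∀ i : Fin 1755, (clsAt r k).testBit (loc g i : ℕ) = (mask0At k).testBit i := by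
  have h := List.all_eq_true.1 cls_ok.1 r (List.mem_range.2 hr)
  simp only [clsOK, Bool.and_eq_true, List.all_eq_true, Nat.blt_eq, Nat.beq_eq, allF_iff] at h
  obtain ⟨⟨⟨hw4, hlt⟩, h0⟩, himg⟩ := h
  have hl : ∀ x ∈ (repW.getD r (0, [])).2, x < numEl := fun x hx => gen_lt (hw4 x hx)
  refine ⟨prodE (repW.getD r (0, [])).2, hlt, ?_, fun k hk i => ?_⟩
  · rw [← appL_eq hl]; exact h0
  · have h' := himg i i.2
    rw [appL_eq hl, clsImgK, List.all_eq_true] at h'
    exact beq_iff_eq.1 (h' k (List.mem_range.2 hk))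

/-- A listed point. -/
noncomputable def ptP {r : ℕ} (hr : r < repW.length) : Fin 1755 := ⟨ptAt r, (rep_facts hr).choose_spec.1⟩

theorem cls_bit {r k : ℕ} (hr : r < repW.length) (hk : k < 3) (i : Fin 1755) :
    (clsAt r k).testBit i = true ↔ Cls k (ptP hr) i := by
  obtain ⟨g, -, h0, himg⟩ := rep_facts hr
  have e : loc g 0 = ptP hr := Fin.ext h0
  obtain ⟨j, rfl⟩ := (loc g).surjective i
  rw [← e, cls_loc, himg k hk j, mask0_iff hk]

theorem relK_perm {r : ℕ} (hr : r < repW.length) {σ : L} (hσ : ∀ i j, Alj (σ i) (σ j) ↔ Alj i j)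
    (hfix : σ (ptP hr) = ptP hr) (x : Fin 1755) : relK r (σ x) = relK r x := by
  have hb : ∀ k < 3, (clsAt r k).testBit (σ x : ℕ) = (clsAt r k).testBit x := fun k hk =>
    Bool.eq_iff_iff.2 (by
      rw [cls_bit hr hk, cls_bit hr hk]
      conv_lhs => rw [← hfix]
      exact cls_perm hσ k _ _)
  have he : Nat.beq (σ x : ℕ) (ptAt r) = Nat.beq x (ptAt r) := Bool.eq_iff_iff.2 (by
    rw [Nat.beq_eq, Nat.beq_eq]
    constructor <;> intro h
    · exact congrArg Fin.val (σ.injective ((Fin.ext h : σ x = ptP hr).trans hfix.symm))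
    · exact congrArg Fin.val ((congrArg σ (Fin.ext h : x = ptP hr)).trans hfix))
  unfold relK
  rw [he, hb 0 (by norm_num), hb 1 (by norm_num), hb 2 (by norm_num)]

end CfsgLib.Sporadic.RuRank
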