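import Cfsg.Agent.Lib.Sporadic.RuRank.Defs

/-!
Counting the ones of a number with at most 1755 digits.
-/

set_option autoImplicit false
set_option maxRecDepth 100000

namespace CfsgLib.Sporadic.RuRank

open CfsgLib.KnownC.RuGroup (popD popD_eq)

theorem popW_sum (x : ℕ) : popW x = ∑ i ∈ Finset.range 1792, (x.testBit i).toNat := by
  have key : ∀ n : ℕ, (Nat.rec 0 (fun k s => Nat.add s (popD (Nat.shiftRight x (Nat.mul 112 k)))) n : ℕ) =
      ∑ i ∈ Finset.range (112 * n), (x.testBit i).toNat := by
    intro n
    induction n with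
    | zero => simp
    | succ n ih =>
      show _ + popD (x >>> (112 * n)) = _
      rw [Nat.mul_succ, Finset.sum_range_add, ih, popD_eq]
      simp only [Nat.testBit_shiftRight]
  exact key 16

theorem pop_card {x : ℕ} (hx : ∀ i, x.testBit i = true → i < 1755) (p : Fin 1755 → Prop) [DecidablePred p]
    (h : ∀ i : Fin 1755, p i ↔ x.testBit i = true) : (Finset.univ.filter p).card = popW x := by
  classical
  rw [popW_sum, ← Finset.sum_filter_add_sum_filter_not (Finset.range 1792) (fun i => x.testBit i = true)]
  rw [Finset.sum_congr rfl (g := fun _ => 1) (fun i hi => by rw [(Finset.mem_filter.1 hi).2]; rfl),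
    Finset.sum_eq_zero (s := (Finset.range 1792).filter fun i => ¬ x.testBit i = true) (fun i hi => by
      have := (Finset.mem_filter.1 hi).2
      rw [Bool.not_eq_true] at this
      rw [this]; rfl), Finset.sum_const, smul_eq_mul, mul_one, add_zero]
  refine Finset.card_bij (fun i _ => (i : ℕ)) (fun i hi => ?_) (fun _ _ _ _ e => Fin.ext e) (fun j hj => ?_)
  · simp only [Finset.mem_filter, Finset.mem_univ, true_and, Finset.mem_range] at hi ⊢
    exact ⟨by have := i.2; omega, (h i).1 hi⟩
  · simp only [Finset.mem_filter, Finset.mem_univ, true_and, Finset.mem_range] at hj ⊢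
    exact ⟨⟨j, hx j hj.2⟩, (h _).2 hj.2, rfl⟩

theorem lt_full {i : ℕ} (h : fullM.testBit i = true) : i < 1755 := by
  rw [fullM, Nat.testBit_two_pow_sub_one, decide_eq_true_eq] at h
  exact h

theorem land_full {x y i : ℕ} (hy : ∀ i, y.testBit i = true → i < 1755) (h : (Nat.land x y).testBit i = true) :
    i < 1755 := by
  rw [show Nat.land x y = x &&& y from rfl, Nat.testBit_land, Bool.and_eq_true] at h
  exact hy i h.2

end CfsgLib.Sporadic.RuRank
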