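import Cfsg.Agent.Lib.KnownC.RuGroup.TitsCheck
import Cfsg.Agent.Lib.Sporadic.OutCert.Slp
import Cfsg.Agent.Lib.Sporadic.RuRank.DataSlp
import Cfsg.Agent.Lib.Sporadic.RuRank.Data
import Cfsg.Agent.Lib.Sporadic.RuRank.DataCls
import Cfsg.Agent.Lib.Sporadic.RuRank.DataTree
import Cfsg.Agent.Lib.Sporadic.RuRank.DataOrb
import Cfsg.Agent.Lib.Sporadic.RuRank.DataSearch
import Cfsg.Agent.Lib.Sporadic.RuRank.DataFar

/-!
The checks used in the recognition of the Rudvalis group as a group of degree 4060.
-/

set_option autoImplicit false
set_option maxRecDepth 100000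
set_option maxHeartbeats 0
set_option Elab.async false

namespace CfsgLib.Sporadic.RuRank

open CfsgLib.Sporadic.OutCert
open CfsgLib.KnownC.RuGroup (orthK titL titP titS popD)
open CfsgLib.Schur.Sporadic.Tits (genK)

/-- The number of a named element on the 1755 points. -/
def val (i : ℕ) : ℕ := slpVal genK steps i

/-- The number of named elements. -/
def numEl : ℕ := genK.length + steps.length

/-- The image of a point under a product of named elements. -/
noncomputable def appL (l : List ℕ) (u : ℕ) : ℕ := appK 11 (l.map val) u

/-- Two products of named elements agree on all points. -/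
noncomputable def sameL (l m : List ℕ) : Bool := allF (fun i => Nat.beq (appL l i) (appL m i)) 1755

/-- Adjacency of points. -/
noncomputable def aljK (i j : ℕ) : Bool := orthK (titL i) (titL j)

/-- The target of a tree entry. -/
def tY (w e : ℕ) : ℕ := e % 2 ^ w

/-- The source of a tree entry. -/
def tX (w e : ℕ) : ℕ := e / 2 ^ w % 2 ^ w

/-- The generator of a tree entry. -/
def tG (w e : ℕ) : ℕ := e / 2 ^ (2 * w)

/-- A tree of images of points. -/
noncomputable def treeK (gs : List ℕ) : List ℕ → ℕ → Bool
  | [], _ => true
  | e :: l, m => Nat.blt (tG 11 e) gs.length && (Nat.testBit m (tX 11 e) &&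
      (Nat.beq (lk 11 (val (gs.getD (tG 11 e) 0)) (tX 11 e)) (tY 11 e) && treeK gs l (m ||| 2 ^ tY 11 e)))

/-- The points of a tree. -/
def treeMask (w b : ℕ) (l : List ℕ) : ℕ := l.foldl (fun m e => m ||| 2 ^ tY w e) (2 ^ b)

/-- All points. -/
def fullM : ℕ := 2 ^ 1755 - 1

/-- The number of ones below position 1792. -/
noncomputable def popW (x : ℕ) : ℕ :=
  Nat.rec 0 (fun k s => Nat.add s (popD (Nat.shiftRight x (Nat.mul 112 k)))) 16

/-- A class of neighbours of the first point. -/
def mask0At (k : ℕ) : ℕ := mask0.getD k 0

/-- A class of neighbours of a listed point. -/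
def clsAt (r k : ℕ) : ℕ := (clsM.getD r []).getD k 0

/-- A listed point. -/
def ptAt (r : ℕ) : ℕ := (repW.getD r (0, [])).1

/-- The classes at a listed point are images of those at the first. -/
noncomputable def clsImgK (r i y : ℕ) : Bool :=
  (List.range 3).all fun k => Nat.testBit (clsAt r k) y == Nat.testBit (mask0At k) i

/-- The tables at a listed point are right. -/
noncomputable def clsOK (r : ℕ) : Bool :=
  ((repW.getD r (0, [])).2.all fun g => Nat.blt g 4) && Nat.blt (ptAt r) 1755 &&
    Nat.beq (appL (repW.getD r (0, [])).2 0) (ptAt r) &&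
      allF (fun i => clsImgK r i (appL (repW.getD r (0, [])).2 i)) 1755

/-- The number of common neighbours of the members of a class and the first point. -/
def comVal (k : ℕ) : ℕ := [217, 345, 281, 315].getD k 0

/-- The number of members of a class among the common neighbours of two opposite points. -/
def nuVal (k : ℕ) : ℕ := [5, 30, 280].getD k 0

/-- The position of a listed base point relative to another point. -/
noncomputable def relK (r x : ℕ) : ℕ :=
  cond (Nat.beq x (ptAt r)) 0 (cond (Nat.testBit (clsAt r 0) x) 1
    (cond (Nat.testBit (clsAt r 1) x) 2 (cond (Nat.testBit (clsAt r 2) x) 3 4)))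

/-- The number of candidates for a base point. -/
noncomputable def candK (j : ℕ) : ℕ :=
  (List.range 1755).countP fun x =>
    (autR.take j).all fun r => Nat.beq (relK r x) (relK r (ptAt (autR.getD j 0)))

/-- An orbit mask. -/
def orbAt (X o : ℕ) : ℕ := (qM.getD X []).getD o 0

/-- The generators of a group of order one hundred. -/
def qGens (X : ℕ) : List ℕ :=
  yI :: zI :: ((xL.getD X ([], [])).2.map fun t => (nR.getD t []).headD 0)

/-- A contradiction at an orbit. -/
noncomputable def badK (X o k I P : ℕ) : Bool :=
  Nat.beq (Nat.land I (orbAt X o)) (orbAt X o) && Nat.blt k 3 && Nat.blt o (qM.getD X []).length &&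
    (Nat.blt (nuVal k) (popW (Nat.land (clsAt ((qR.getD X []).getD o 0) k) I)) ||
      Nat.blt (popW (Nat.land (clsAt ((qR.getD X []).getD o 0) k) P)) (nuVal k))

/-- The search: a stack of pairs (points in, points possible). -/
noncomputable def searchK (X : ℕ) : List ℕ → List (ℕ × ℕ) → Bool
  | [], s => s.isEmpty
  | _ :: _, [] => false
  | c :: l, (I, P) :: s =>
    cond (Nat.beq (c % 4) 3)
      (Nat.blt (c / 4) (qM.getD X []).length &&
        searchK X l ((Nat.lor I (orbAt X (c / 4)), P) :: (I, Nat.land P (Nat.xor fullM (orbAt X (c / 4)))) :: s))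
      ((cond (Nat.beq (c % 4) 0) (badK X (c / 4 / 3) (c / 4 % 3) I P)
        (cond (Nat.beq (c % 4) 1) (Nat.blt 780 (popW I) || Nat.blt (popW P) 780)
          (Nat.beq (popW I) 780 && (Nat.blt (c / 4) solM.length && Nat.beq I (solM.getD (c / 4) 0))))) &&
        searchK X l s)

/-- A candidate set is right or refuted. -/
noncomputable def solOK (i : ℕ) : Bool :=
  cond (solV.getD i (false, 0)).1
    (Nat.blt (solV.getD i (false, 0)).2 4060 && Nat.testBit farMask (solV.getD i (false, 0)).2 &&
      allF (fun j => Nat.testBit (solM.getD i 0) j == orthK (solV.getD i (false, 0)).2 (titL j)) 1755)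
    (Nat.blt (solV.getD i (false, 0)).2 1755 && Nat.testBit (solM.getD i 0) (solV.getD i (false, 0)).2 &&
      aljK 0 (solV.getD i (false, 0)).2 &&
      Nat.beq ((List.range 1755).countP fun r =>
        Nat.testBit (solM.getD i 0) r && (aljK 0 r && aljK (solV.getD i (false, 0)).2 r)) 130)

/-- A triple of representatives is closed. -/
def closedK (T : List ℕ) : Bool :=
  (0 :: T).all fun a => (0 :: T).all fun b =>
    (0 :: T).any fun c => Nat.beq ((nTab.getD a []).getD b (0, 0)).1 c

/-- The image of a line is the given one: they have the same orthogonality to the separating lines. -/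
noncomputable def farMapK (gi v w : ℕ) : Bool :=
  titS.all fun q => orthK v (titL (lk 11 (val gi) (titP q))) == orthK w q

/-- A tree on distant lines. -/
noncomputable def farTreeK (gs : List (ℕ × ℕ)) : List ℕ → ℕ → Bool
  | [], _ => true
  | e :: l, m => Nat.blt (tG 12 e) gs.length && (Nat.testBit m (tX 12 e) && (Nat.testBit farMask (tY 12 e) &&
      (farMapK (gs.getD (tG 12 e) (0, 0)).2 (tX 12 e) (tY 12 e) && farTreeK gs l (m ||| 2 ^ tY 12 e))))

/-- An orbit on distant lines. -/
def farOrb (k : ℕ) : ℕ := treeMask 12 (farB.getD k 0) (farT.getD k [])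

end CfsgLib.Sporadic.RuRank
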