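import Cfsg.Agent.Lib.Sporadic.RuRank.Local
import Cfsg.Agent.Lib.Sporadic.RuRank.CheckFar

/-!
The distant lines: transitivity, and the orbits of the stabiliser of the first distant line.
-/

set_option autoImplicit false
set_option maxRecDepth 100000

namespace CfsgLib.Sporadic.RuRank

open CfsgLib.Sporadic.OutCert
open CfsgLib.KnownC.RuGroup (orthK titL titP titS tl)
open scoped Classical

attribute [local irreducible] lk pkF allF compK oneK steps orthK titL titP titS farMask farAll farT farB farG genInv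

/-- A distant line. -/
def IsFar (v : Fin 4060) : Prop := farMask.testBit v = true

theorem isFar_iff (v : Fin 4060) : IsFar v ↔ v ≠ 0 ∧ ¬ Adj 0 v := by
  have h := beq_iff_eq.1 (allF_iff.1 farMask_ok.1 v v.2)
  rw [IsFar, h, Bool.and_eq_true, Bool.not_eq_true', Bool.not_eq_true', Bool.eq_false_iff, Bool.eq_false_iff]
  refine and_congr ?_ Iff.rfl
  rw [not_iff_not, Nat.beq_eq]
  exact ⟨fun e => Fin.ext e, fun e => congrArg Fin.val e⟩

theorem isFar_act (k : K) {v : Fin 4060} (h : IsFar v) : IsFar (act k v) := by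
  rw [isFar_iff] at h ⊢
  refine ⟨fun e => h.1 ((act k).injective (e.trans (act_zero k).symm)), fun e => h.2 ?_⟩
  refine (act_adj k 0 v).1 ?_
  rwa [act_zero k]

/-- The first distant line. -/
noncomputable def f0 : Fin 4060 := ⟨far0, by simpa using farMask_ok.2.2.2⟩

theorem isFar_f0 : IsFar f0 := farMask_ok.2.2.1

theorem far_map {g gi : ℕ} (hg : g < numEl) (hgi : gi < numEl) (hinv : sameL [g, gi] [] = true)
    {v w : Fin 4060} (h : farMapK gi v w = true) : act (el g) v = w := by
  have e : el gi = (el g)⁻¹ := by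
    have h1 := prodE_one (l := [g, gi]) (by simp [hg, hgi]) hinv
    exact (inv_eq_of_mul_eq_one_right (by simpa [prodE, eq_comm] using h1)).symm
  refine key_injective fun q hq => ?_
  have hq' := beq_iff_eq.1 (List.all_eq_true.1 h q hq)
  obtain ⟨i, rfl, hi⟩ := sep_facts hq
  let j : Fin 1755 := loc (el gi) i
  have hj : (j : ℕ) = lk 11 (val gi) (titP (tl i : ℕ)) := by rw [← hi]; exact (rep_el hgi i).symm
  rw [← hq', ← hj]
  have hm := mu_loc (el g) v j
  have hij : loc (el g) j = i := by
    show loc (el g) (loc (el gi) i) = i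
    rw [e, map_inv]
    exact (loc (el g)).apply_symm_apply i
  rw [hij] at hm
  exact Bool.eq_iff_iff.2 hm

theorem farTree_spec {gs : List (ℕ × ℕ)} {S : Subgroup K}
    (hgs : ∀ e ∈ gs, e.1 < numEl ∧ e.2 < numEl ∧ sameL [e.1, e.2] [] = true ∧ el e.1 ∈ S) (b : Fin 4060) :
    ∀ (l : List ℕ) (m : ℕ), farTreeK gs l m = true →
      (∀ p, m.testBit p = true → ∃ k ∈ S, ∃ v : Fin 4060, (v : ℕ) = p ∧ act k b = v) →
      ∀ p, (l.foldl (fun m e => m ||| 2 ^ tY 12 e) m).testBit p = true →
        ∃ k ∈ S, ∃ v : Fin 4060, (v : ℕ) = p ∧ act k b = v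
  | [], _, _, hm => hm
  | e :: l, m, h, hm => by
    simp only [farTreeK, Bool.and_eq_true, Nat.blt_eq] at h
    obtain ⟨hg, hq, hlt, hmap, hrest⟩ := h
    have hy : tY 12 e < 4060 := by
      by_contra hge
      rw [Nat.testBit_eq_false_of_lt (lt_of_lt_of_le farMask_lt (Nat.pow_le_pow_right (by norm_num) (by omega)))] at hlt
      simp at hlt
    refine farTree_spec hgs b l _ hrest fun p hp => ?_
    rw [Nat.testBit_lor, Bool.or_eq_true, Nat.testBit_two_pow, decide_eq_true_eq] at hp
    rcases hp with hp | rfl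
    · exact hm p hp
    obtain ⟨k, hk, v, hv, hkv⟩ := hm _ hq
    rw [List.getD_eq_getElem _ _ hg, ← hv] at hmap
    obtain ⟨h1, h2, h3, h4⟩ := hgs _ (List.getElem_mem hg)
    refine ⟨el gs[tG 12 e].1 * k, mul_mem h4 hk, ⟨tY 12 e, hy⟩, rfl, ?_⟩
    rw [map_mul, Equiv.Perm.mul_apply, hkv]
    exact far_map h1 h2 h3 (w := ⟨tY 12 e, hy⟩) hmap

theorem gen_pairs : ∀ e ∈ (List.range 4).map fun x => (x, genInv.getD x 0),
    e.1 < numEl ∧ e.2 < numEl ∧ sameL [e.1, e.2] [] = true ∧ el e.1 ∈ (⊤ : Subgroup K) := by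
  intro e he
  obtain ⟨x, hx, rfl⟩ := List.mem_map.1 he
  have hx4 := List.mem_range.1 hx
  refine ⟨gen_lt hx4, ?_, List.all_eq_true.1 inv_ok.1 x hx, Subgroup.mem_top _⟩
  have hxl : x < genInv.length := by rw [names_ok.2.2.2.2.2]; exact hx4
  show genInv.getD x 0 < numEl
  rw [List.getD_eq_getElem _ _ hxl]
  simpa using List.all_eq_true.1 names_ok.1 genInv[x] (by simp)

theorem trans_far {v : Fin 4060} (hv : IsFar v) : ∃ k : K, act k f0 = v := by
  obtain ⟨k, -, w, hw, hk⟩ := farTree_spec gen_pairs f0 farAll _ farAll_ok.1 (fun p hp => by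
    rw [Nat.testBit_two_pow, decide_eq_true_eq] at hp
    exact ⟨1, one_mem _, f0, hp, by rw [map_one]; rfl⟩) v (by
      show (treeMask 12 far0 farAll).testBit v = true
      rw [farAll_ok.2]
      exact hv)
  exact ⟨k, hk.trans (Fin.ext hw)⟩

/-- The stabiliser of the first distant line. -/
noncomputable def farStab : Subgroup K := (MulAction.stabilizer P f0).comap act

theorem mem_farStab {k : K} : k ∈ farStab ↔ act k f0 = f0 := Iff.rfl

theorem farOrb_spec {k : ℕ} (hk : k < 5) :
    ∃ b : Fin 4060, IsFar b ∧ ∀ v : Fin 4060, (farOrb k).testBit v = true → ∃ g ∈ farStab, act g b = v := by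
  have h := List.all_eq_true.1 farT_ok.2.2.1 k (List.mem_range.2 hk)
  simp only [Bool.and_eq_true] at h
  have hb : farB.getD k 0 < 4060 := by
    by_contra hge
    rw [Nat.testBit_eq_false_of_lt (lt_of_lt_of_le farMask_lt (Nat.pow_le_pow_right (by norm_num) (by omega)))] at h
    simp at h
  refine ⟨⟨_, hb⟩, h.1, fun v hv => ?_⟩
  have hgs : ∀ e ∈ farG, e.1 < numEl ∧ e.2 < numEl ∧ sameL [e.1, e.2] [] = true ∧ el e.1 ∈ farStab := by
    intro e he
    have h1 : e.1 < numEl := by
      simpa using List.all_eq_true.1 names_ok.1 e.1 (by simp [List.mem_map_of_mem (f := Prod.fst) he])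
    have h2 : e.2 < numEl := by
      simpa using List.all_eq_true.1 names_ok.1 e.2 (by simp [List.mem_map_of_mem (f := Prod.snd) he])
    have hi := List.all_eq_true.1 inv_ok.2 e he
    exact ⟨h1, h2, hi, far_map h1 h2 hi (v := f0) (w := f0) (List.all_eq_true.1 farFix_ok e he)⟩
  obtain ⟨g, hg, w, hw, hgw⟩ := farTree_spec hgs ⟨_, hb⟩ (farT.getD k []) _ h.2 (fun p hp => by
    rw [Nat.testBit_two_pow, decide_eq_true_eq] at hp
    exact ⟨1, one_mem _, ⟨_, hb⟩, hp, by rw [map_one]; rfl⟩) v hv
  exact ⟨g, hg, hgw.trans (Fin.ext hw)⟩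

theorem farOrb_cover {v : Fin 4060} (hv : IsFar v) : v = f0 ∨ ∃ k < 5, (farOrb k).testBit v = true := by
  have key : ∀ (l : List ℕ) (s p : ℕ), (l.foldl (fun s k => s ||| farOrb k) s).testBit p = true →
      s.testBit p = true ∨ ∃ k ∈ l, (farOrb k).testBit p = true := by
    intro l
    induction l with
    | nil => exact fun s p h => Or.inl h
    | cons t l ih =>
      intro s p h
      rcases ih _ _ h with h | ⟨t', ht', h⟩
      · rw [Nat.testBit_lor, Bool.or_eq_true] at h
        exact h.imp id fun h => ⟨t, List.mem_cons_self, h⟩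
      · exact Or.inr ⟨t', List.mem_cons_of_mem _ ht', h⟩
  rcases key (List.range 5) (2 ^ far0) v (by rw [farT_ok.2.2.2.1]; exact hv) with h | ⟨k, hk, h⟩
  · rw [Nat.testBit_two_pow, decide_eq_true_eq] at h
    exact Or.inl (Fin.ext h.symm)
  · exact Or.inr ⟨k, List.mem_range.1 hk, h⟩

/-- A line orthogonal to the first distant line lies in the last orbit. -/
theorem farOrb_adj {v : Fin 4060} (hv : IsFar v) : Adj f0 v ↔ (farOrb 4).testBit v = true := by
  have h := allF_iff.1 farT_ok.2.2.2.2.2 v v.2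
  rw [show farMask.testBit (v : ℕ) = true from hv, Bool.not_true, Bool.false_or, beq_iff_eq] at h
  show orthK far0 v = true ↔ _
  rw [h]

/-- An invariant set of 975 distant lines consists of the lines orthogonal to the first distant line. -/
theorem far_class (W : Fin 4060 → Prop) (hW : ∀ v, W v → IsFar v) (h0 : ¬ W f0)
    (hinv : ∀ g ∈ farStab, ∀ v, W (act g v) ↔ W v) (hcard : (Finset.univ.filter W).card = 975) :
    ∀ v, IsFar v → (W v ↔ Adj f0 v) := by
  choose b hbf hborb using fun k (hk : k < 5) => farOrb_spec hk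
  have hconst : ∀ k (hk : k < 5) (v : Fin 4060), (farOrb k).testBit v = true → (W v ↔ W (b k hk)) := by
    intro k hk v hv
    obtain ⟨g, hg, e⟩ := hborb k hk v hv
    rw [← e]
    exact hinv g hg _
  let U : Finset (Fin 5) := Finset.univ.filter fun k => W (b k k.2)
  let T : Fin 5 → Finset (Fin 4060) := fun k => Finset.univ.filter fun v => (farOrb k).testBit v = true
  have hsz : ∀ k : Fin 5, (T k).card = [78, 300, 300, 650, 975].getD k 0 := by
    intro k
    show (Finset.univ.filter fun v : Fin 4060 => (farOrb k).testBit v = true).card = _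
    rw [card_filter_range (b := fun v => (farOrb k).testBit v) fun v => Iff.rfl,
      ← farT_ok.2.2.2.2.1, List.getD_eq_getElem _ _ (by simp), List.getElem_map, List.getElem_range]
  have hdisj : ∀ k l : Fin 5, k ≠ l → Disjoint (T k) (T l) := by
    intro k l hne
    have h := List.all_eq_true.1 (List.all_eq_true.1 farT_disj k (List.mem_range.2 k.2)) l (List.mem_range.2 l.2)
    rw [Bool.or_eq_true, Nat.beq_eq, Nat.beq_eq] at h
    have h' := h.resolve_left fun e => hne (Fin.ext e)
    rw [Finset.disjoint_left]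
    intro v hv hv'
    simp only [T, Finset.mem_filter, Finset.mem_univ, true_and] at hv hv'
    have := Nat.testBit_land (farOrb k) (farOrb l) v
    rw [show farOrb k &&& farOrb l = 0 from h', hv, hv', Nat.zero_testBit] at this
    simp at this
  have heq : Finset.univ.filter W = U.biUnion T := by
    ext v
    simp only [Finset.mem_filter, Finset.mem_univ, true_and, Finset.mem_biUnion, U, T]
    constructor
    · intro hv
      rcases farOrb_cover (hW v hv) with rfl | ⟨k, hk, hb⟩
      · exact absurd hv h0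
      · exact ⟨⟨k, hk⟩, (hconst k hk v hb).1 hv, hb⟩
    · rintro ⟨k, hk, hb⟩
      exact (hconst k k.2 v hb).2 hk
  rw [heq, Finset.card_biUnion (fun k _ l _ h => hdisj k l h), Finset.sum_congr rfl fun k _ => hsz k] at hcard
  have hU : U = {4} := by
    have key : ∀ U : Finset (Fin 5), (∑ k ∈ U, [78, 300, 300, 650, 975].getD (k : ℕ) 0) = 975 → U = {4} := by decide
    exact key U hcard
  intro v hv
  rw [farOrb_adj hv]
  have := Finset.ext_iff.1 heq v
  rw [hU] at this
  simpa [T] using this

end CfsgLib.Sporadic.RuRank
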