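import Cfsg.Agent.Lib.Sporadic.RuRank.Std
import Cfsg.Agent.Lib.Sporadic.RuRank.Aut

/-!
A transitive group of degree 4060 with the given suborbits and labelled point stabiliser is the Rudvalis
group.
-/

set_option autoImplicit false
set_option maxRecDepth 100000

open scoped Classical

namespace CfsgLib.Sporadic.RuRank

open CfsgLib.Sporadic.OutCert
open CfsgLib.KnownC.RuGroup (tl tl_inj permRu permEquiv orthK)

attribute [local irreducible] lk pkF allF compK oneK steps mask0 popW m4 farMask orthK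

variable {Ω : Type*} [Fintype Ω] [DecidableEq Ω] {G : Subgroup (Equiv.Perm Ω)} {a b c : Ω}
  {R : Ω → Ω → Prop}

/-- An isomorphism onto the model, given a distant point with the standard neighbours. -/
theorem exists_graphIso (hΩ : Fintype.card Ω = 4060) (d : GraphData G a b c R) (L : NearLabel G a R)
    (hL : ∀ i, R c (L.e.symm i : Ω) ↔ Mu f0 i) :
    ∃ φ : Ω ≃ Fin 4060, ∀ x y, R x y ↔ Adj (φ x) (φ y) := by
  obtain ⟨hadj, hμ⟩ := L.adjacency d
  let A := MulAction.stabilizer G a
  have hfarK : ∀ k : A, ∀ i, Mu f0 i ↔ R (k • c) (L.e.symm (loc (L.θ k) i) : Ω) := by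
    intro k i
    rw [← hL i, L.symm_smul d]
    exact (d.inv (k : G) c _).symm
  have hwd : ∀ k k' : A, k • c = k' • c → act (L.θ k) f0 = act (L.θ k') f0 := by
    intro k k' e
    refine mu_injective fun i => ?_
    obtain ⟨j, rfl⟩ := (loc (L.θ k)).surjective i
    rw [mu_loc, hfarK k]
    obtain ⟨j', hj'⟩ := (loc (L.θ k')).surjective (loc (L.θ k) j)
    rw [← hj', mu_loc, hfarK k', e]
  have hfar' : ∀ x : {y // y ≠ a ∧ ¬ R a y}, ∃ k : A, k • c = (x : Ω) := fun x => d.cover _ x.2.1 x.2.2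
  choose kk hkk using hfar'
  let φ : Ω → Fin 4060 := fun x =>
    if h0 : x = a then 0 else if h : R a x then tl (L.e ⟨x, h⟩) else act (L.θ (kk ⟨x, h0, h⟩)) f0
  have φa : φ a = 0 := dif_pos rfl
  have φnb : ∀ x (h : R a x), φ x = tl (L.e ⟨x, h⟩) := fun x h => by
    have h0 : x ≠ a := fun e => d.irrefl a (e ▸ h)
    simp only [φ, dif_neg h0, dif_pos h]
  have hkc : ∀ k : A, k • c ≠ a ∧ ¬ R a (k • c) := fun k => ⟨(d.move k).ac.symm, (d.move k).nac⟩
  have φfar : ∀ k : A, φ (k • c) = act (L.θ k) f0 := fun k => by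
    simp only [φ, dif_neg (hkc k).1, dif_neg (hkc k).2]
    exact hwd _ _ (hkk _)
  have hfar_of : ∀ z : Fin 4060, z ≠ 0 → ¬ Adj 0 z → IsFar z := fun z h h' => (isFar_iff z).2 ⟨h, h'⟩
  have hsurj : Function.Surjective φ := by
    intro z
    by_cases h0 : z = 0
    · exact ⟨a, φa.trans h0.symm⟩
    by_cases h : Adj 0 z
    · obtain ⟨i, rfl⟩ := exists_nb h
      exact ⟨L.e.symm i, by rw [φnb _ (L.e.symm i).2, Equiv.apply_symm_apply]⟩
    · obtain ⟨u, rfl⟩ := trans_far (hfar_of z h0 h)
      obtain ⟨k, rfl⟩ := L.θ.surjective u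
      exact ⟨k • c, φfar k⟩
  have hbij : Function.Bijective φ := (Fintype.bijective_iff_surjective_and_card φ).2
    ⟨hsurj, by rw [hΩ, Fintype.card_fin]⟩
  let e : Ω ≃ Fin 4060 := Equiv.ofBijective φ hbij
  have hequiv : ∀ (k : A) (x : Ω), φ (k • x) = act (L.θ k) (φ x) := by
    intro k x
    by_cases h0 : x = a
    · rw [h0, show k • a = a from k.2, φa, act_zero]
    by_cases h : R a x
    · rw [φnb _ (d.smul_near k h), φnb _ h, L.equiv k ⟨x, h⟩, tl_loc]
    · obtain ⟨l, rfl⟩ : ∃ l : A, l • c = x := ⟨kk ⟨x, h0, h⟩, hkk _⟩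
      rw [← mul_smul, φfar, φfar, map_mul, map_mul, Equiv.Perm.mul_apply]
  have φc : φ c = f0 := by
    have := φfar 1
    rwa [one_smul, map_one, map_one, Equiv.Perm.one_apply] at this
  have hsymmA : ∀ x y, Adj x y ↔ Adj y x := fun x y => ⟨adj_symm, adj_symm⟩
  have hfarφ : ∀ y, y ≠ a → ¬ R a y → IsFar (φ y) := by
    intro y h0 h
    obtain ⟨l, rfl⟩ : ∃ l : A, l • c = y := ⟨kk ⟨y, h0, h⟩, hkk _⟩
    rw [φfar]
    exact isFar_act _ isFar_f0
  have hbase : ∀ y, R a y ↔ Adj (φ a) (φ y) := by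
    intro y
    rw [φa]
    by_cases h0 : y = a
    · rw [h0, φa]; exact iff_of_false (d.irrefl a) (adj_irrefl 0)
    by_cases h : R a y
    · rw [φnb y h]; exact iff_of_true h (adj_tl _)
    · exact iff_of_false h ((isFar_iff _).1 (hfarφ y h0 h)).2
  have hmid : ∀ y, R a y → (R c y ↔ Adj (φ c) (φ y)) := by
    intro y h
    have := hL (L.e ⟨y, h⟩)
    rw [Equiv.symm_apply_apply] at this
    rw [this, φc, φnb y h]
    exact Iff.rfl
  have hfc : ∀ y, y ≠ a → ¬ R a y → (R c y ↔ Adj (φ c) (φ y)) := by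
    let W : Fin 4060 → Prop := fun v => IsFar v ∧ R c (e.symm v)
    have hW0 : ¬ W f0 := by
      rintro ⟨-, h⟩
      have : e.symm f0 = c := by rw [Equiv.symm_apply_eq]; exact φc.symm
      rw [this] at h
      exact d.irrefl c h
    have hWinv : ∀ g ∈ farStab, ∀ v, W (act g v) ↔ W v := by
      intro g hg v
      obtain ⟨k, rfl⟩ := L.θ.surjective g
      have hkc' : k • c = c := hbij.injective (by rw [hequiv, φc]; exact mem_farStab.1 hg)
      have he : k • e.symm v = e.symm (act (L.θ k) v) := by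
        refine hbij.injective ?_
        rw [hequiv]
        show act (L.θ k) (e (e.symm v)) = e (e.symm (act (L.θ k) v))
        rw [Equiv.apply_symm_apply, Equiv.apply_symm_apply]
      have hR : R c (e.symm (act (L.θ k) v)) ↔ R c (e.symm v) := by
        rw [← he]
        have hinv := d.inv (k : G) c (e.symm v)
        rwa [show (k : G) • c = c from hkc'] at hinv
      refine and_congr ⟨fun h => ?_, isFar_act _⟩ hR
      have h2 := isFar_act (L.θ k)⁻¹ h
      rwa [map_inv, show (act (L.θ k))⁻¹ (act (L.θ k) v) = v from (act (L.θ k)).symm_apply_apply v] at h2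
    have hWcard : (Finset.univ.filter W).card = 975 := by
      have hsplit := Finset.card_filter_add_card_filter_not (s := Finset.univ.filter (R c)) (fun z => R a z)
      rw [Finset.filter_filter, Finset.filter_filter, d.degree c,
        show (Finset.univ.filter fun z => R c z ∧ R a z) = Finset.univ.filter fun z => R a z ∧ R c z from
          Finset.filter_congr fun z _ => and_comm, hμ] at hsplit
      have h2 : (Finset.univ.filter W).card = (Finset.univ.filter fun z => R c z ∧ ¬ R a z).card := by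
        refine Finset.card_bij (fun v _ => e.symm v) (fun v hv => ?_) (fun v _ w _ he => e.symm.injective he)
          (fun z hz => ?_)
        · simp only [Finset.mem_filter, Finset.mem_univ, true_and] at hv ⊢
          refine ⟨hv.2, fun h => ?_⟩
          rw [hbase, φa, show φ (e.symm v) = v from e.apply_symm_apply _] at h
          exact ((isFar_iff v).1 hv.1).2 h
        · simp only [Finset.mem_filter, Finset.mem_univ, true_and] at hz
          have hza : z ≠ a := fun he => d.nac (d.symm (he ▸ hz.1))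
          have hvz : e.symm (φ z) = z := e.symm_apply_apply z
          exact ⟨φ z, by
            simp only [Finset.mem_filter, Finset.mem_univ, true_and, W, hvz]
            exact ⟨hfarφ z hza hz.2, hz.1⟩, hvz⟩
      omega
    have hnear := far_class W (fun v hv => hv.1) hW0 hWinv (by convert hWcard)
    intro y h0 h
    rw [φc, ← hnear _ (hfarφ y h0 h)]
    show R c y ↔ IsFar (φ y) ∧ R c (e.symm (φ y))
    rw [show e.symm (φ y) = y from e.symm_apply_apply y]
    exact ⟨fun h' => ⟨hfarφ y h0 h, h'⟩, fun h' => h'.2⟩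
  refine ⟨e, fun x y => ?_⟩
  show R x y ↔ Adj (φ x) (φ y)
  by_cases hx0 : x = a
  · rw [hx0]; exact hbase y
  by_cases hx : R a x
  · by_cases hy0 : y = a
    · rw [hy0, hsymmA]; exact ⟨fun h => (hbase x).1 (d.symm h), fun h => d.symm ((hbase x).2 h)⟩
    by_cases hy : R a y
    · rw [φnb x hx, φnb y hy]; exact hadj ⟨x, hx⟩ ⟨y, hy⟩
    · obtain ⟨l, rfl⟩ : ∃ l : A, l • c = y := ⟨kk ⟨y, hy0, hy⟩, hkk _⟩
      obtain ⟨x', rfl⟩ : ∃ x', l • x' = x := ⟨_, smul_inv_smul l x⟩
      have hx' : R a x' := by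
        have := d.smul_near l⁻¹ hx
        rwa [inv_smul_smul] at this
      rw [show R (l • x') (l • c) ↔ R x' c from d.inv (l : G) _ _, hequiv, hequiv, act_adj, hsymmA]
      exact ⟨fun h => (hmid x' hx').1 (d.symm h), fun h => d.symm ((hmid x' hx').2 h)⟩
  · obtain ⟨l, rfl⟩ : ∃ l : A, l • c = x := ⟨kk ⟨x, hx0, hx⟩, hkk _⟩
    obtain ⟨y', rfl⟩ : ∃ y', l • y' = y := ⟨_, smul_inv_smul l y⟩
    rw [show R (l • c) (l • y') ↔ R c y' from d.inv (l : G) _ _, hequiv, hequiv, act_adj]
    by_cases hy0 : y' = a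
    · rw [hy0, hsymmA]; exact ⟨fun h => (hbase c).1 (d.symm h), fun h => d.symm ((hbase c).2 h)⟩
    by_cases hy : R a y'
    · exact hmid y' hy
    · exact hfc y' hy0 hy

/-- Recognition from a labelled isomorphism of the point stabiliser. -/
theorem recognize_of (hΩ : Fintype.card Ω = 4060) (G : Subgroup (Equiv.Perm Ω))
    [MulAction.IsPretransitive G Ω] (a : Ω) (θ : MulAction.stabilizer G a ≃* K)
    (hconj : ∀ H : Subgroup K, Nat.card H = 20480 → ∃ p : Fin 1755, ∀ g, g ∈ H ↔ loc g p = p) (b c : Ω)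
    (hb : (MulAction.orbit (MulAction.stabilizer G a) b).ncard = 1755)
    (hc : (MulAction.orbit (MulAction.stabilizer G a) c).ncard = 2304) : Nonempty (G ≃* Cfsg.Spor.Ru) := by
  have d := graphData hΩ G a b c hb hc
  obtain ⟨L⟩ := exists_nearLabel d θ hb hconj
  obtain ⟨k, hk⟩ := exists_standard d hc L
  obtain ⟨φ, hφ⟩ := exists_graphIso hΩ (d.move k) L hk
  let ι : G →* P := φ.permCongrHom.toMonoidHom.comp G.subtype
  have hι : Function.Injective ι := φ.permCongrHom.injective.comp Subtype.val_injective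
  have hιφ : ∀ (g : G) (x : Ω), ι g (φ x) = φ (g • x) := fun g x => by
    show φ ((g : Equiv.Perm Ω) (φ.symm (φ x))) = φ (g • x)
    rw [φ.symm_apply_apply]; rfl
  have hle : ι.range ≤ presGrp := by
    rintro _ ⟨g, rfl⟩
    refine mem_presGrp.2 fun x y => ?_
    obtain ⟨x, rfl⟩ := φ.surjective x
    obtain ⟨y, rfl⟩ := φ.surjective y
    refine Bool.eq_iff_iff.2 ?_
    show Adj _ _ ↔ Adj _ _
    rw [hιφ, hιφ, ← hφ, ← hφ]
    exact d.inv g x y
  have hGcard : Nat.card ι.range = 145926144000 := by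
    rw [← Nat.card_congr (MonoidHom.ofInjective hι).toEquiv,
      ← (MulAction.stabilizer G a).card_mul_index, MulAction.index_stabilizer_of_transitive,
      Nat.card_congr L.θ.toEquiv, card_K, Nat.card_eq_fintype_card, hΩ]
  exact ⟨((MonoidHom.ofInjective hι).trans (MulEquiv.subgroupCongr (eq_permRu ι.range hle hGcard))).trans
    permEquiv.symm⟩

end CfsgLib.Sporadic.RuRank
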