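import Cfsg.Agent.Lib.Sporadic.OutCert.OrbitBound
import Cfsg.Agent.Lib.Schur.Tits.Base
import Cfsg.Agent.Lib.Sporadic.RuRank.IndexData

/-!
Checks for the orbits of the point stabilisers of the smallest Ree group on 1755 points.
-/

set_option autoImplicit false
set_option maxRecDepth 100000
set_option maxHeartbeats 0
set_option Elab.async false

namespace CfsgLib.Sporadic.RuRank

open CfsgLib.Sporadic.OutCert CfsgLib.Schur.Sporadic.Tits

/-- The number of a letter. -/
noncomputable def letK (a : ℕ) : ℕ := if Nat.blt a 4 then genK.getD a 0 else genKi.getD (a - 4) 0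

/-- The number of a word. -/
noncomputable def wK (w : List ℕ) : ℕ := w.foldr (fun a acc => compK 11 1755 (letK a) acc) (oneK 11 1755)

/-- The image of a point under a word. -/
noncomputable def wA (w : List ℕ) (x : ℕ) : ℕ := appK 11 (w.map letK) x

/-- The mask of a point and some further ones. -/
def maskT (b : ℕ) (l : List (ℕ × ℕ × ℕ)) : ℕ := l.foldl (fun m e => m ||| 2 ^ e.1) (2 ^ b)

/-- All the letters. -/
noncomputable def letL : List ℕ := (List.range 8).map letK

/-- The generators of the group of order 4096. -/
noncomputable def uGens : List ℕ := (idxWords.take 3).map wK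

/-- The two levels. -/
noncomputable def levs : List Level :=
  [⟨levBase.1, uGens, levTreeA⟩, ⟨levBase.2, (idxWords.drop 3).map wK, levTreeB⟩]

theorem trans_ok : orbK 11 letL transTree (2 ^ 0) = true ∧ transTree.length = 1754 := by decide +kernel

theorem words_ok : (idxWords.all fun w => Nat.beq (wA w 0) 0 &&
    (Nat.beq (wA w 1) 1 && Nat.beq (wA w 2) 2 || Nat.beq (wA w 1) 2 && Nat.beq (wA w 2) 1)) = true ∧
    idxWords.length = 6 := by decide +kernel

theorem pair_ok : (pairWords.all fun w => Nat.beq (wA w 0) 0) = true ∧
    (pairWords.map fun w => 2 ^ wA w 1 + 2 ^ wA w 2).Nodup ∧ pairWords.length = 5 := by decide +kernel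

theorem levs_ok : levelsK 11 1755 levs = true ∧ levTreeA.length = 1023 ∧ levTreeB.length = 3 := by
  decide +kernel

theorem orbs_ok : (orbTrees.all fun e => Nat.blt e.1 1755 && (orbK 11 uGens e.2 (2 ^ e.1) &&
    Nat.blt 6 e.2.length)) = true := by decide +kernel

theorem cover_ok : ((List.range 1755).all fun i => Nat.blt i 3 ||
    orbTrees.any fun e => Nat.testBit (maskT e.1 e.2) i) = true := by decide +kernel

end CfsgLib.Sporadic.RuRank
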