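import Cfsg.Agent.Lib.KnownC.RuGroup.Tits
import Cfsg.Agent.Lib.Sporadic.RuRank.IndexCheck

/-!
Subgroups of order 20480 of the smallest Ree group are conjugate to a point stabiliser in the action of
degree 1755, which is the action of a line stabiliser of the Rudvalis group.
-/

set_option autoImplicit false
set_option maxRecDepth 100000

namespace CfsgLib.Sporadic.RuRank

open CfsgLib.Sporadic.OutCert CfsgLib.Schur.Sporadic.Tits CfsgLib.Chevalley.TitsGroup
open scoped Pointwise Classical

attribute [local irreducible] lk pkF allF compK oneK appK genK genKi transTree levTreeA levTreeB orbTrees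
  idxWords pairWords

theorem exists_iso : Nonempty (Cfsg.Lie.twistedF4 (ZMod 2) 1 ≃* TG) := by
  simpa using Chevalley.Twist.F4.transfer (m := 0) Chevalley.TitsGroup.hK2
    (fun _ G => Nonempty (↥G ≃* TG)) ⟨MulEquiv.refl _⟩

theorem psiT_injective : Function.Injective psiT := by
  rw [← MonoidHom.ker_eq_bot_iff]
  by_contra hne
  have hsup := crit.sup psiT.ker hne
  have h2 : Nat.card psiT.ker ≤ 2 := by
    have hinj : Function.Injective ((QuotientGroup.mk' (commutator TG)).comp psiT.ker.subtype) := by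
      rw [← MonoidHom.ker_eq_bot_iff, Subgroup.eq_bot_iff_forall]
      intro x hx
      have hm : (x : TG) ∈ commutator TG := (QuotientGroup.eq_one_iff _).1 (MonoidHom.mem_ker.1 hx)
      have : psi ⟨x, hm⟩ = psi 1 := by rw [map_one]; exact MonoidHom.mem_ker.1 x.2
      exact Subtype.ext (congrArg (fun y : T => (y : TG)) (psi_injective this))
    refine (Nat.card_le_card_of_injective _ hinj).trans (le_of_eq ?_)
    exact index_commutator crit
  have hB : Nat.card crit.B ≤ 4096 := Nat.le_of_dvd (by norm_num) crit.cardB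
  have hs : Function.Surjective fun p : psiT.ker × crit.B => (p.1 : TG) * p.2 := fun g => by
    obtain ⟨z, hz, b, hb, e⟩ := Subgroup.mem_sup_of_normal_left.1 (hsup ▸ Subgroup.mem_top g : g ∈ psiT.ker ⊔ crit.B)
    exact ⟨(⟨z, hz⟩, ⟨b, hb⟩), e⟩
  have h := Nat.card_le_card_of_surjective _ hs
  rw [card_TG, Nat.card_prod] at h
  have := Nat.mul_le_mul h2 hB
  omega

theorem rep_of_valid {w N n ni : ℕ} {g : Equiv.Perm (Fin N)} (h : validK w N ni n = true) (hg : Rep w N n g) :
    Rep w N ni g⁻¹ := fun i => by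
  obtain ⟨j, rfl⟩ := g.surjective i
  rw [← hg j, (valid_at h j).2.2.2]
  simp

theorem gen_rep_inv (k : Fin 4) : Rep 11 1755 (genKi.getD k.val 0) (psiT (gT k))⁻¹ := by
  have h := gen_table k
  simp only [genOK, Bool.and_eq_true] at h
  exact rep_of_valid h.1 (rep_gen k)

/-- The element of a letter. -/
noncomputable def letE (a : ℕ) : TG :=
  if h : a < 4 then gT ⟨a, h⟩ else if h : a - 4 < 4 then (gT ⟨a - 4, h⟩)⁻¹ else 1

theorem rep_letE {a : ℕ} (ha : a < 8) : Rep 11 1755 (letK a) (psiT (letE a)) := by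
  by_cases h : a < 4
  · have hb : Nat.blt a 4 = true := by rw [Nat.blt_eq]; exact h
    simpa [letK, letE, h, hb] using rep_gen ⟨a, h⟩
  · have hb : Nat.blt a 4 = false := by
      rw [Bool.eq_false_iff]
      exact fun e => h (by rwa [Nat.blt_eq] at e)
    have h' : a - 4 < 4 := by omega
    simpa [letK, letE, h, h', hb] using gen_rep_inv ⟨a - 4, h'⟩

/-- The element of a word. -/
noncomputable def wE (w : List ℕ) : TG := (w.map letE).prod

theorem rep_wE : ∀ {w : List ℕ}, (∀ a ∈ w, a < 8) → Rep 11 1755 (wK w) (psiT (wE w))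
  | [], _ => by simpa [wK, wE] using rep_one (w := 11) (N := 1755) (by norm_num)
  | a :: w, h => by
    rw [show wE (a :: w) = letE a * wE w by simp [wE], map_mul]
    exact rep_comp (by norm_num) (rep_letE (h a List.mem_cons_self))
      (rep_wE fun b hb => h b (List.mem_cons_of_mem _ hb))

theorem app_wA {w : List ℕ} (h : ∀ a ∈ w, a < 8) (i : Fin 1755) : wA w i = (psiT (wE w) i : ℕ) := by
  have hf : List.Forall₂ (Rep 11 1755) (w.map letK) (w.map fun a => psiT (letE a)) := by
    induction w with
    | nil => exact List.Forall₂.nil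
    | cons a w ih =>
      exact List.Forall₂.cons (rep_letE (h a List.mem_cons_self))
        (ih fun b hb => h b (List.mem_cons_of_mem _ hb))
  rw [wA, app_eq hf, wE, map_list_prod, List.map_map]
  rfl

theorem blt_lt {a b : ℕ} (h : Nat.blt a b = true) : a < b := by rwa [Nat.blt_eq] at h

theorem letters_ok : (idxWords.all fun w => w.all fun a => Nat.blt a 8) = true ∧
    (pairWords.all fun w => w.all fun a => Nat.blt a 8) = true := by decide +kernel

/-- The first point. -/
def pt0 : Fin 1755 := ⟨0, by norm_num⟩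

/-- The second point. -/
def pt1 : Fin 1755 := ⟨1, by norm_num⟩

/-- The third point. -/
def pt2 : Fin 1755 := ⟨2, by norm_num⟩

theorem orbit_bound {H : Subgroup TG} {gens : List ℕ} {b : Fin 1755} {l : List (ℕ × ℕ × ℕ)}
    (hg : ∀ g ∈ gens, ∃ x ∈ H.map psiT, Rep 11 1755 g x) (h : orbK 11 gens l (2 ^ (b : ℕ)) = true) :
    l.length + 1 ≤ (MulAction.orbit (H.map psiT) b).ncard ∧
      ∀ p, (maskT b l).testBit p = true → ∃ y ∈ MulAction.orbit (H.map psiT) b, (y : ℕ) = p := by
  classical
  have hb : ∀ p, (2 ^ (b : ℕ)).testBit p = true → ∃ y ∈ MulAction.orbit (H.map psiT) b, (y : ℕ) = p := by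
    intro p hp
    rw [Nat.testBit_two_pow, decide_eq_true_eq] at hp
    exact ⟨b, MulAction.mem_orbit_self b, hp⟩
  obtain ⟨hn, hf, hm⟩ := orbK_spec hg h hb
  constructor
  · have hsub : insert (b : ℕ) (l.map Prod.fst).toFinset ≤
        ((MulAction.orbit (H.map psiT) b).toFinset.image fun y : Fin 1755 => (y : ℕ)) := by
      intro p hp
      rw [Finset.mem_insert, List.mem_toFinset, List.mem_map] at hp
      refine Finset.mem_image.2 ?_
      rcases hp with rfl | ⟨e, he, rfl⟩
      · exact ⟨b, Set.mem_toFinset.2 (MulAction.mem_orbit_self b), rfl⟩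
      · obtain ⟨y, hy, e'⟩ := hm e he
        exact ⟨y, Set.mem_toFinset.2 hy, e'⟩
    have hcard := Finset.card_le_card hsub
    rw [Finset.card_insert_of_notMem (fun hmem => by
      obtain ⟨e, he, e'⟩ := List.mem_map.1 (List.mem_toFinset.1 hmem)
      have := hf e he
      rw [e', Nat.testBit_two_pow_self] at this
      exact Bool.noConfusion this), List.toFinset_card_of_nodup hn, List.length_map] at hcard
    rw [Set.ncard_eq_toFinset_card']
    exact hcard.trans Finset.card_image_le
  · intro p hp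
    have key : ∀ (l : List (ℕ × ℕ × ℕ)) (m : ℕ), (l.foldl (fun m e => m ||| 2 ^ e.1) m).testBit p = true →
        m.testBit p = true ∨ ∃ e ∈ l, e.1 = p := by
      intro l
      induction l with
      | nil => exact fun m hm => Or.inl hm
      | cons a r ih =>
        intro m hm
        rcases ih _ hm with h1 | ⟨e, he, e'⟩
        · rw [Nat.testBit_lor, Bool.or_eq_true, Nat.testBit_two_pow, decide_eq_true_eq] at h1
          rcases h1 with h1 | h1
          · exact Or.inl h1
          · exact Or.inr ⟨a, List.mem_cons_self, h1⟩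
        · exact Or.inr ⟨e, List.mem_cons_of_mem _ he, e'⟩
    rcases key l _ hp with h1 | ⟨e, he, rfl⟩
    · exact hb p h1
    · exact hm e he

theorem psiT_transitive (i : Fin 1755) : ∃ g : TG, psiT g pt0 = i := by
  have hg : ∀ g ∈ letL, ∃ x ∈ (⊤ : Subgroup TG).map psiT, Rep 11 1755 g x := by
    intro g hg
    obtain ⟨a, ha, rfl⟩ := List.mem_map.1 hg
    exact ⟨_, ⟨letE a, Subgroup.mem_top _, rfl⟩, rep_letE (List.mem_range.1 ha)⟩
  obtain ⟨h1, -⟩ := orbit_bound (b := pt0) hg trans_ok.1
  rw [trans_ok.2] at h1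
  have huniv : MulAction.orbit ((⊤ : Subgroup TG).map psiT) pt0 = Set.univ :=
    Set.eq_of_subset_of_ncard_le (Set.subset_univ _) (by rw [Set.ncard_univ, Nat.card_fin]; exact h1)
      (Set.toFinite _)
  have hi : i ∈ MulAction.orbit ((⊤ : Subgroup TG).map psiT) pt0 := by rw [huniv]; exact Set.mem_univ i
  obtain ⟨⟨x, hx⟩, hgi⟩ := hi
  obtain ⟨g, -, rfl⟩ := Subgroup.mem_map.1 hx
  exact ⟨g, hgi⟩

/-- The action on the 1755 points. -/
noncomputable local instance ptAct : MulAction TG (Fin 1755) := MulAction.compHom _ psiT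

/-- The stabiliser of the first point. -/
noncomputable def ptStab : Subgroup TG := MulAction.stabilizer TG pt0

theorem mem_ptStab {g : TG} : g ∈ ptStab ↔ psiT g pt0 = pt0 := Iff.rfl

theorem card_stab_point (i : Fin 1755) : Nat.card (MulAction.stabilizer TG i) = 20480 := by
  have h := (MulAction.stabilizer TG i).card_mul_index
  have ho : MulAction.orbit TG i = Set.univ := by
    refine Set.eq_univ_of_forall fun j => ?_
    obtain ⟨g, hg⟩ := psiT_transitive i
    obtain ⟨k, hk⟩ := psiT_transitive j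
    refine ⟨k * g⁻¹, ?_⟩
    show psiT (k * g⁻¹) i = j
    rw [map_mul, map_inv, Equiv.Perm.mul_apply, Equiv.Perm.inv_eq_iff_eq.2 hg.symm, hk]
  rw [MulAction.index_stabilizer, ho, Set.ncard_univ, Nat.card_fin, card_TG] at h
  omega

/-- The stabiliser of the first point and of the pair. -/
noncomputable def flagStab : Subgroup TG :=
  ptStab ⊓ MulAction.stabilizer TG ({pt1, pt2} : Finset (Fin 1755))

theorem word_flag {w : List ℕ} (hw : w ∈ idxWords) : wE w ∈ flagStab ∧ ∀ a ∈ w, a < 8 := by
  have hlt : ∀ a ∈ w, a < 8 := fun a ha =>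
    blt_lt (List.all_eq_true.1 (List.all_eq_true.1 letters_ok.1 w hw) a ha)
  have h := List.all_eq_true.1 words_ok.1 w hw
  simp only [Bool.and_eq_true, Bool.or_eq_true, Nat.beq_eq] at h
  obtain ⟨h0, h12⟩ := h
  refine ⟨Subgroup.mem_inf.2 ⟨Fin.ext ((app_wA hlt pt0).symm.trans h0), ?_⟩, hlt⟩
  rw [MulAction.mem_stabilizer_iff, Finset.smul_finset_insert, Finset.smul_finset_singleton]
  have e1 := app_wA hlt pt1
  have e2 := app_wA hlt pt2
  rcases h12 with ⟨ha, hb⟩ | ⟨ha, hb⟩
  · rw [show wE w • pt1 = pt1 from Fin.ext (e1.symm.trans ha), show wE w • pt2 = pt2 from Fin.ext (e2.symm.trans hb)]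
  · rw [show wE w • pt1 = pt2 from Fin.ext (e1.symm.trans ha), show wE w • pt2 = pt1 from Fin.ext (e2.symm.trans hb),
      Finset.pair_comm]

theorem rep_uGens : ∀ g ∈ uGens, ∃ x ∈ flagStab.map psiT, Rep 11 1755 g x := by
  intro g hg
  obtain ⟨w, hw, rfl⟩ := List.mem_map.1 hg
  obtain ⟨h1, h2⟩ := word_flag (List.mem_of_mem_take hw)
  exact ⟨_, ⟨_, h1, rfl⟩, rep_wE h2⟩

theorem card_flagStab : Nat.card flagStab = 4096 := by
  refine le_antisymm ?_ ?_
  · let S : Subgroup ptStab := MulAction.stabilizer ptStab ({pt1, pt2} : Finset (Fin 1755))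
    have he : Nat.card flagStab = Nat.card S := Nat.card_congr
      { toFun := fun g => ⟨⟨g, (Subgroup.mem_inf.1 g.2).1⟩, (Subgroup.mem_inf.1 g.2).2⟩
        invFun := fun g => ⟨((g : ptStab) : TG), Subgroup.mem_inf.2 ⟨(g : ptStab).2, g.2⟩⟩
        left_inv := fun _ => rfl
        right_inv := fun _ => rfl }
    have h := S.card_mul_index
    rw [MulAction.index_stabilizer, show Nat.card ptStab = 20480 from card_stab_point pt0] at h
    have h5 : 5 ≤ (MulAction.orbit ptStab ({pt1, pt2} : Finset (Fin 1755))).ncard := by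
      obtain ⟨h0, hn, hlen⟩ := pair_ok
      let f : Finset (Fin 1755) → ℕ := fun s => ∑ i ∈ s, 2 ^ (i : ℕ)
      have hne : pt1 ∉ ({pt2} : Finset (Fin 1755)) := by decide
      have hsub : ∀ m ∈ pairWords.map fun w => 2 ^ wA w 1 + 2 ^ wA w 2,
          m ∈ f '' MulAction.orbit ptStab ({pt1, pt2} : Finset (Fin 1755)) := by
        intro m hm
        obtain ⟨w, hw, rfl⟩ := List.mem_map.1 hm
        have hlt : ∀ a ∈ w, a < 8 := fun a ha =>
          blt_lt (List.all_eq_true.1 (List.all_eq_true.1 letters_ok.2 w hw) a ha)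
        have hp : wE w ∈ ptStab :=
          Fin.ext ((app_wA hlt pt0).symm.trans (Nat.eq_of_beq_eq_true (List.all_eq_true.1 h0 w hw)))
        refine ⟨(⟨wE w, hp⟩ : ptStab) • ({pt1, pt2} : Finset (Fin 1755)), MulAction.mem_orbit _ _, ?_⟩
        show f (wE w • ({pt1, pt2} : Finset (Fin 1755))) = _
        have hne' : wE w • pt1 ∉ ({wE w • pt2} : Finset (Fin 1755)) := by
          rw [Finset.mem_singleton]
          exact fun e => hne (Finset.mem_singleton.2 (MulAction.injective _ e))
        rw [Finset.smul_finset_insert, Finset.smul_finset_singleton]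
        simp only [f]
        rw [Finset.sum_insert hne', Finset.sum_singleton, show wA w 1 = _ from app_wA hlt pt1,
          show wA w 2 = _ from app_wA hlt pt2]
        rfl
      have hc := Set.ncard_le_ncard (s := {m | m ∈ pairWords.map fun w => 2 ^ wA w 1 + 2 ^ wA w 2}) hsub
        (Set.toFinite _)
      rw [show {m | m ∈ pairWords.map fun w => 2 ^ wA w 1 + 2 ^ wA w 2} =
          ↑(pairWords.map fun w => 2 ^ wA w 1 + 2 ^ wA w 2).toFinset by ext; simp, Set.ncard_coe_finset,
        List.toFinset_card_of_nodup hn, List.length_map, hlen] at hc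
      exact hc.trans (Set.ncard_image_le (Set.toFinite _))
    rw [he]
    have := Nat.mul_le_mul_left (Nat.card S) h5
    omega
  · rw [Nat.card_congr (flagStab.equivMapOfInjective psiT psiT_injective).toEquiv]
    have h := card_ge_levels levs (flagStab.map psiT) levs_ok.1 (fun L hL g hg => by
      simp only [levs, List.mem_cons, List.not_mem_nil, or_false] at hL
      rcases hL with rfl | rfl
      · exact rep_uGens g hg
      · obtain ⟨w, hw, rfl⟩ := List.mem_map.1 hg
        obtain ⟨h1, h2⟩ := word_flag (List.mem_of_mem_drop hw)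
        exact ⟨_, ⟨_, h1, rfl⟩, rep_wE h2⟩)
    refine le_trans (le_of_eq ?_) h
    simp [levs, levs_ok.2.1, levs_ok.2.2]

theorem big_orbit {i : Fin 1755} (h0 : i ≠ pt0) (h1 : i ≠ pt1) (h2 : i ≠ pt2) :
    8 ≤ (MulAction.orbit flagStab i).ncard := by
  have hc := List.all_eq_true.1 cover_ok i (List.mem_range.2 i.2)
  simp only [Bool.or_eq_true, Nat.blt_eq, List.any_eq_true] at hc
  rcases hc with hc | ⟨e, he, hbit⟩
  · have : ∀ {j : Fin 1755}, i ≠ j → (i : ℕ) ≠ (j : ℕ) := fun h e => h (Fin.ext e)
    have a := this h0; have b := this h1; have c := this h2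
    simp only [pt0, pt1, pt2] at a b c
    omega
  · have h := List.all_eq_true.1 orbs_ok e he
    simp only [Bool.and_eq_true, Nat.blt_eq] at h
    obtain ⟨hlt, hk, hlen⟩ := h
    obtain ⟨hcard, hmem⟩ := orbit_bound (H := flagStab) (b := ⟨e.1, hlt⟩) rep_uGens hk
    obtain ⟨y, hy, hyi⟩ := hmem _ hbit
    have heq : MulAction.orbit flagStab i = MulAction.orbit (flagStab.map psiT) (⟨e.1, hlt⟩ : Fin 1755) := by
      rw [← MulAction.orbit_eq_iff.2 hy, show y = i from Fin.ext hyi]
      ext x
      constructor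
      · rintro ⟨g, rfl⟩
        exact ⟨⟨_, g, g.2, rfl⟩, rfl⟩
      · rintro ⟨⟨_, g, hg, rfl⟩, rfl⟩
        exact ⟨⟨g, hg⟩, rfl⟩
    rw [heq]
    omega

/-- A subgroup of order 20480 containing the group of order 4096 is the point stabiliser. -/
theorem eq_ptStab {H : Subgroup TG} (hH : Nat.card H = 20480) (hle : flagStab ≤ H) : H = ptStab := by
  classical
  let S : Subgroup H := MulAction.stabilizer H pt0
  have hS : 4096 ∣ Nat.card S := by
    rw [← card_flagStab]
    let f : flagStab →* S :=
      { toFun := fun g => ⟨⟨g, hle g.2⟩, (Subgroup.mem_inf.1 g.2).1⟩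
        map_one' := rfl
        map_mul' := fun _ _ => rfl }
    exact Subgroup.card_dvd_of_injective f fun a b e =>
      Subtype.ext (congrArg (fun x : S => ((x : H) : TG)) e)
  have h := S.card_mul_index
  rw [MulAction.index_stabilizer, hH] at h
  obtain ⟨m, hm⟩ := hS
  rw [hm, mul_assoc] at h
  have h' : m * (MulAction.orbit H pt0).ncard = 5 := by omega
  have hsmall : (MulAction.orbit H pt0).ncard ≤ 5 := Nat.le_of_dvd (by norm_num) ⟨m, by rw [← h', mul_comm]⟩
  have honly : MulAction.orbit H pt0 ⊆ {pt0, pt1, pt2} := by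
    intro x hx
    by_contra hn
    simp only [Set.mem_insert_iff, Set.mem_singleton_iff, not_or] at hn
    have h8 := big_orbit hn.1 hn.2.1 hn.2.2
    have hsub : MulAction.orbit flagStab x ⊆ MulAction.orbit H pt0 := by
      rintro _ ⟨g, rfl⟩
      exact MulAction.mem_orbit_of_mem_orbit (⟨g, hle g.2⟩ : H) hx
    have := Set.ncard_le_ncard hsub (Set.toFinite _)
    omega
  have h3 : (MulAction.orbit H pt0).ncard ≤ 3 :=
    (Set.ncard_le_ncard honly (Set.toFinite _)).trans
      ((Set.ncard_insert_le _ _).trans (Nat.add_le_add_right ((Set.ncard_insert_le _ _).trans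
        (by rw [Set.ncard_singleton])) 1))
  have h1 : (MulAction.orbit H pt0).ncard = 1 :=
    (Nat.prime_five.eq_one_or_self_of_dvd _ ⟨m, by rw [← h', mul_comm]⟩).resolve_right (by omega)
  obtain ⟨z, hz⟩ := Set.ncard_eq_one.1 h1
  have hfix : H ≤ ptStab := fun g hg => by
    have a : (⟨g, hg⟩ : H) • pt0 ∈ MulAction.orbit H pt0 := MulAction.mem_orbit _ _
    have b : pt0 ∈ MulAction.orbit H pt0 := MulAction.mem_orbit_self _
    rw [hz, Set.mem_singleton_iff] at a b
    exact a.trans b.symm
  exact Subgroup.eq_of_le_of_card_ge hfix (by rw [hH]; exact (card_stab_point pt0).le)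

theorem factorization_TG : (Nat.card TG).factorization 2 = 12 := by
  rw [card_TG]
  have h2 : Fact (Nat.Prime 2) := ⟨Nat.prime_two⟩
  refine le_antisymm ?_ ((Nat.Prime.pow_dvd_iff_le_factorization Nat.prime_two (by norm_num)).1 (by norm_num))
  by_contra hgt
  have := (Nat.Prime.pow_dvd_iff_le_factorization (p := 2) (k := 13) Nat.prime_two
    (by norm_num : (35942400 : ℕ) ≠ 0)).2 (by omega)
  norm_num at this

theorem sylow_conj {G : Type*} [Group G] [Finite G] (hfact : (Nat.card G).factorization 2 = 12)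
    {U P : Subgroup G} (hU : Nat.card U = 4096)
    (huniq : ∀ H : Subgroup G, Nat.card H = 20480 → U ≤ H → H = P) (H : Subgroup G) (hH : Nat.card H = 20480) :
    ∃ g : G, H.map (MulAut.conj g).toMonoidHom = P := by
  have h2 : Fact (Nat.Prime 2) := ⟨Nat.prime_two⟩
  obtain ⟨P0, hP0⟩ := Sylow.exists_subgroup_card_pow_prime 2 (n := 12) (G := H) (by rw [hH]; norm_num)
  have hP : Nat.card ↥(P0.map H.subtype) = 2 ^ 12 := by
    rw [Nat.card_congr (P0.equivMapOfInjective _ H.subtype_injective).symm.toEquiv, hP0]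
  let S1 : Sylow 2 G := Sylow.ofCard (P0.map H.subtype) (by rw [hfact, hP])
  let S2 : Sylow 2 G := Sylow.ofCard U (by rw [hfact, hU]; norm_num)
  obtain ⟨g, hg⟩ := MulAction.exists_smul_eq G S1 S2
  refine ⟨g, huniq _ ?_ ?_⟩
  · rw [Nat.card_congr (H.equivMapOfInjective _ (MulAut.conj g).injective).symm.toEquiv, hH]
  · rw [show U = ((g • S1 : Sylow 2 G) : Subgroup G) by rw [hg]; rfl, Sylow.coe_subgroup_smul]
    exact Subgroup.map_mono (Subgroup.map_subtype_le P0)

theorem conj_conj {G : Type*} [Group G] {H H' P : Subgroup G} {g k : G}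
    (hg : H.map (MulAut.conj g).toMonoidHom = P) (hk : H'.map (MulAut.conj k).toMonoidHom = P) :
    H.map (MulAut.conj (k⁻¹ * g)).toMonoidHom = H' := by
  have e : ∀ a b : G, (MulAut.conj (a * b)).toMonoidHom =
      (MulAut.conj a).toMonoidHom.comp (MulAut.conj b).toMonoidHom := fun a b => by
    ext x; simp [mul_assoc]
  rw [e, ← Subgroup.map_map, hg, ← hk, Subgroup.map_map, ← e, inv_mul_cancel]
  convert Subgroup.map_id H'
  ext x; simp

/-- A subgroup of order 20480 is conjugate to the point stabiliser. -/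
theorem conj_ptStab (H : Subgroup TG) (hH : Nat.card H = 20480) :
    ∃ g : TG, H.map (MulAut.conj g).toMonoidHom = ptStab :=
  sylow_conj factorization_TG card_flagStab (fun _ => eq_ptStab) H hH

/-- Subgroups of order 20480 are conjugate. -/
theorem conj_of_card (H H' : Subgroup TG) (h : Nat.card H = 20480) (h' : Nat.card H' = 20480) :
    ∃ g : TG, H.map (MulAut.conj g).toMonoidHom = H' := by
  obtain ⟨g, hg⟩ := conj_ptStab H h
  obtain ⟨k, hk⟩ := conj_ptStab H' h'
  exact ⟨k⁻¹ * g, conj_conj hg hk⟩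

open CfsgLib.KnownC.RuGroup in
/-- The line stabiliser in the Rudvalis group is the smallest Ree group, compatibly with the actions. -/
theorem exists_stabEquiv : ∃ E : TG ≃* CfsgLib.KnownC.RuGroup.Stab, ∀ g, stabPerm (E g) = psiT g := by
  have hle : psiT.range ≤ stabPerm.range := by
    rw [MonoidHom.range_eq_map, ← closure_gT, MonoidHom.map_closure, Subgroup.closure_le]
    rintro _ ⟨_, ⟨k, rfl⟩, rfl⟩
    exact mem_range_gen k
  have hfin : Finite Stab := Finite.of_injective _ stabPerm_injective
  have heq : psiT.range = stabPerm.range := by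
    refine Subgroup.eq_of_le_of_card_ge hle (le_of_eq ?_)
    rw [← Nat.card_congr (MonoidHom.ofInjective stabPerm_injective).toEquiv, card_stab,
      ← Nat.card_congr (MonoidHom.ofInjective psiT_injective).toEquiv, card_TG]
  refine ⟨(MonoidHom.ofInjective psiT_injective).trans ((MulEquiv.subgroupCongr heq).trans
    (MonoidHom.ofInjective stabPerm_injective).symm), fun g => ?_⟩
  exact congrArg Subtype.val ((MonoidHom.ofInjective stabPerm_injective).apply_symm_apply
    (MulEquiv.subgroupCongr heq (MonoidHom.ofInjective psiT_injective g)))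

end CfsgLib.Sporadic.RuRank
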