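import Cfsg.Agent.Lib.Sporadic.RuRank.Local
import Cfsg.Agent.Lib.Sporadic.RuRank.Graph

/-!
Labelling of the 1755 neighbours of a point by the points of the model, compatibly with the point stabilisers
and with adjacency.
-/

set_option autoImplicit false
set_option maxRecDepth 100000

open scoped Classical

namespace CfsgLib.Sporadic.RuRank

open CfsgLib.Sporadic.OutCert

attribute [local irreducible] lk pkF allF compK oneK steps mask0 popW m4

variable {Ω : Type*} [Fintype Ω] [DecidableEq Ω] {G : Subgroup (Equiv.Perm Ω)} {a b c : Ω}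
  {R : Ω → Ω → Prop}

/-- A labelling of the neighbours of `a` compatible with an isomorphism of the point stabilisers. -/
structure NearLabel (G : Subgroup (Equiv.Perm Ω)) (a : Ω) (R : Ω → Ω → Prop) where
  θ : MulAction.stabilizer G a ≃* K
  e : {y // R a y} ≃ Fin 1755
  equiv : ∀ (k : MulAction.stabilizer G a) (y : {y // R a y}) (h : R a (k • (y : Ω))),
    e ⟨k • (y : Ω), h⟩ = loc (θ k) (e y)

theorem GraphData.smul_near (d : GraphData G a b c R) (k : MulAction.stabilizer G a) {y : Ω} (h : R a y) :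
    R a (k • y) := by
  have h2 := (d.inv (k : G) a y).2 h
  rwa [show (k : G) • a = a from k.2] at h2

/-- The point `c` may be replaced by another point of its suborbit. -/
theorem GraphData.move (d : GraphData G a b c R) (k : MulAction.stabilizer G a) :
    GraphData G a b (k • c) R where
  symm := d.symm
  irrefl := d.irrefl
  inv := d.inv
  base := d.base
  cover := fun y h1 h2 => by rw [MulAction.orbit_smul]; exact d.cover y h1 h2
  ac := fun e => d.ac (MulAction.injective k ((show k • a = a from k.2).trans e))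
  nac := fun e => d.nac (by
    have h2 := d.smul_near k⁻¹ e
    rwa [inv_smul_smul] at h2)
  degree := d.degree
  count := by
    have e : (Finset.univ.filter fun z => R a z ∧ R (k • c) z).card =
        (Finset.univ.filter fun z => R a z ∧ R c z).card := by
      refine (Finset.card_equiv (MulAction.toPerm (k : G)) fun z => ?_).symm
      simp only [Finset.mem_filter, Finset.mem_univ, true_and, MulAction.toPerm_apply]
      have h1 := d.inv (k : G) a z
      rw [show (k : G) • a = a from k.2] at h1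
      rw [h1, show R (k • c) ((k : G) • z) ↔ R c z from d.inv (k : G) c z]
    rw [e]
    exact d.count
  not_full := d.not_full

theorem NearLabel.symm_smul (L : NearLabel G a R) (d : GraphData G a b c R) (k : MulAction.stabilizer G a)
    (i : Fin 1755) : (L.e.symm (loc (L.θ k) i) : Ω) = k • (L.e.symm i : Ω) := by
  have hm := d.smul_near k (L.e.symm i).2
  have := L.equiv k (L.e.symm i) hm
  rw [Equiv.apply_symm_apply] at this
  rw [← this, Equiv.symm_apply_apply]

theorem exists_nearLabel (d : GraphData G a b c R) (θ : MulAction.stabilizer G a ≃* K)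
    (hb : (MulAction.orbit (MulAction.stabilizer G a) b).ncard = 1755)
    (hconj : ∀ H : Subgroup K, Nat.card H = 20480 → ∃ p : Fin 1755, ∀ g, g ∈ H ↔ loc g p = p) :
    Nonempty (NearLabel G a R) := by
  let A := MulAction.stabilizer G a
  have hcard : Nat.card (MulAction.stabilizer A b) = 20480 := by
    have h := (MulAction.stabilizer A b).card_mul_index
    rw [MulAction.index_stabilizer, hb, Nat.card_congr θ.toEquiv, card_K] at h
    omega
  obtain ⟨p, hp⟩ := hconj ((MulAction.stabilizer A b).map θ.toMonoidHom) (by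
    rw [Nat.card_congr ((MulAction.stabilizer A b).equivMapOfInjective _ θ.injective).symm.toEquiv, hcard])
  have key : ∀ k k' : A, k • b = k' • b ↔ loc (θ k) p = loc (θ k') p := by
    intro k k'
    have h := hp (θ (k'⁻¹ * k))
    rw [show (θ (k'⁻¹ * k) ∈ (MulAction.stabilizer A b).map θ.toMonoidHom) ↔ (k'⁻¹ * k) • b = b from
      ⟨fun hm => by
        obtain ⟨g, hg, hg'⟩ := Subgroup.mem_map.1 hm
        rwa [θ.injective hg'] at hg, fun hm => Subgroup.mem_map.2 ⟨_, hm, rfl⟩⟩] at h
    rw [mul_smul, inv_smul_eq_iff, map_mul, map_mul, map_inv, map_inv, Equiv.Perm.mul_apply,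
      Equiv.Perm.inv_eq_iff_eq] at h
    rw [h]
  have hex : ∀ y : {y // R a y}, ∃ k : A, k • b = (y : Ω) := fun y => (d.base y).1 y.2
  choose kk hkk using hex
  let f : {y // R a y} → Fin 1755 := fun y => loc (θ (kk y)) p
  have hf : Function.Bijective f := by
    refine ⟨fun y z e => Subtype.ext ?_, fun i => ?_⟩
    · rw [← hkk y, ← hkk z]; exact (key _ _).2 e
    · obtain ⟨u, hu⟩ := trans_all i
      obtain ⟨w, hw⟩ := trans_all p
      obtain ⟨k, hk⟩ := θ.surjective (u * w⁻¹)
      refine ⟨⟨k • b, (d.base _).2 ⟨k, rfl⟩⟩, ?_⟩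
      refine ((key _ _).1 (hkk _)).trans ?_
      rw [hk, map_mul, map_inv, Equiv.Perm.mul_apply, Equiv.Perm.inv_eq_iff_eq.2 hw.symm, hu]
  refine ⟨⟨θ, Equiv.ofBijective f hf, fun k y h => ?_⟩⟩
  show loc (θ (kk ⟨_, h⟩)) p = loc (θ k) (loc (θ (kk y)) p)
  rw [← Equiv.Perm.mul_apply, ← map_mul, ← map_mul]
  exact (key _ _).1 (by rw [hkk, mul_smul, hkk])

theorem adj_iff_of_count {Q : Fin 1755 → Fin 1755 → Prop} (hirr : ∀ i, ¬ Q i i)
    (hinv : ∀ (u : K) i j, Q (loc u i) (loc u j) ↔ Q i j) {n μ : ℕ}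
    (hn : (Finset.univ.filter (Q 0)).card = n) (hcnt : 1755 + 1755 * n + 2304 * μ = 3080025) :
    n = 1754 ∨ n = 730 ∧ ∀ i j, Q i j ↔ Alj i j := by
  let U : Finset (Fin 4) := Finset.univ.filter fun k => Q 0 (bP k)
  have hinJ : ∀ {g : K}, g ∈ J → ∀ k, Q 0 (loc g (bP k)) ↔ Q 0 (bP k) := fun {g} hg k => by
    conv_lhs => rw [← mem_J.1 hg]
    exact hinv _ _ _
  have heq : Finset.univ.filter (Q 0) = U.biUnion classSet := by
    ext i
    simp only [Finset.mem_filter, Finset.mem_univ, true_and, Finset.mem_biUnion, U, classSet]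
    constructor
    · intro hq
      obtain ⟨k, g, hg, rfl⟩ := class_rep (i := i) fun e => hirr 0 (e ▸ hq)
      exact ⟨k, (hinJ hg k).1 hq, (m4_iff _ _).2 ⟨g, hg, rfl⟩⟩
    · rintro ⟨k, hk, hb⟩
      obtain ⟨g, hg, rfl⟩ := (m4_iff _ _).1 hb
      exact (hinJ hg k).2 hk
  have hdisj : ∀ k l : Fin 4, k ≠ l → Disjoint (classSet k) (classSet l) := by
    intro k l hne
    rw [Finset.disjoint_left]
    intro i hi hi'
    simp only [classSet, Finset.mem_filter, Finset.mem_univ, true_and, m4_iff] at hi hi'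
    obtain ⟨g, hg, rfl⟩ := hi
    obtain ⟨g', hg', e⟩ := hi'
    have h2 := (adj_rep hg' l).2
    rw [e, (adj_rep hg k).2] at h2
    exact hne (Fin.ext (comVal_inj k k.2 l l.2 h2))
  rw [heq, Finset.card_biUnion (fun k _ l _ h => hdisj k l h), Finset.sum_congr rfl fun k _ => card_classSet k] at hn
  have key : ∀ U : Finset (Fin 4), (∑ k ∈ U, [10, 80, 640, 1024].getD (k : ℕ) 0) = 1754 ∨
      U = {0, 1, 2} ∨ (3078270 - 1755 * ∑ k ∈ U, [10, 80, 640, 1024].getD (k : ℕ) 0) % 2304 ≠ 0 := by decide
  rcases key U with h | h | h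
  · exact Or.inl (hn ▸ h)
  · refine Or.inr ⟨by rw [← hn, h]; rfl, fun i j => ?_⟩
    by_cases hij : i = j
    · subst hij
      exact iff_of_false (hirr i) (alj_irrefl i)
    obtain ⟨k, g, rfl, rfl⟩ := class_pair hij
    rw [hinv, loc_alj, (base_com k).1]
    have hm : k ∈ U ↔ Q 0 (bP k) := by simp [U]
    rw [← hm, h]
    exact (show ∀ k : Fin 4, k ∈ ({0, 1, 2} : Finset (Fin 4)) ↔ (k : ℕ) < 3 by decide) k
  · exact absurd (by rw [hn]; omega) h

theorem NearLabel.adjacency (L : NearLabel G a R) (d : GraphData G a b c R) :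
    (∀ y z : {y // R a y}, R (y : Ω) (z : Ω) ↔ Alj (L.e y) (L.e z)) ∧
      (Finset.univ.filter fun z => R a z ∧ R c z).card = 780 := by
  let Q : Fin 1755 → Fin 1755 → Prop := fun i j => R (L.e.symm i : Ω) (L.e.symm j : Ω)
  have hinv : ∀ (u : K) i j, Q (loc u i) (loc u j) ↔ Q i j := by
    intro u i j
    obtain ⟨k, rfl⟩ := L.θ.surjective u
    show R _ _ ↔ R _ _
    rw [L.symm_smul d, L.symm_smul d]
    exact d.inv (k : G) _ _
  have hab : R a b := (d.base b).2 (MulAction.mem_orbit_self b)
  obtain ⟨u, hu⟩ := trans_all (L.e ⟨b, hab⟩)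
  have hn : (Finset.univ.filter (Q 0)).card = (Finset.univ.filter fun z => R a z ∧ R b z).card := by
    refine Eq.trans (Finset.card_equiv (loc u) fun i => ?_ :
      _ = (Finset.univ.filter (Q (L.e ⟨b, hab⟩))).card) ?_
    · simp only [Finset.mem_filter, Finset.mem_univ, true_and]
      rw [← hu, hinv]
    refine Finset.card_bij (fun i _ => (L.e.symm i : Ω)) (fun i hi => ?_) (fun i _ j _ e => ?_) (fun z hz => ?_)
    · simp only [Q, Finset.mem_filter, Finset.mem_univ, true_and, Equiv.symm_apply_apply] at hi ⊢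
      exact ⟨(L.e.symm i).2, hi⟩
    · exact L.e.symm.injective (Subtype.ext e)
    · simp only [Finset.mem_filter, Finset.mem_univ, true_and] at hz
      refine ⟨L.e ⟨z, hz.1⟩, ?_, by rw [Equiv.symm_apply_apply]⟩
      simp only [Q, Finset.mem_filter, Finset.mem_univ, true_and, Equiv.symm_apply_apply]
      exact hz.2
  have hnf := d.not_full
  rcases adj_iff_of_count (Q := Q) (fun i => d.irrefl _) hinv hn d.count with h | ⟨h, hQ⟩
  · exact absurd h hnf
  · refine ⟨fun y z => ?_, by have := d.count; omega⟩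
    rw [← hQ]
    simp only [Q, Equiv.symm_apply_apply]

end CfsgLib.Sporadic.RuRank
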