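import Cfsg.Agent.Lib.Sporadic.RuRank.Model
import Cfsg.Agent.Lib.Sporadic.RuRank.Count

/-!
The local graph on 1755 points: the four classes of pairs, told apart by the numbers of common neighbours.
-/

set_option autoImplicit false
set_option maxRecDepth 100000

namespace CfsgLib.Sporadic.RuRank

open CfsgLib.Sporadic.OutCert
open scoped Classical

attribute [local irreducible] lk pkF allF compK oneK steps mask0 comM nearT locAll popW aljK

theorem trans_all (i : Fin 1755) : ∃ k : K, loc k 0 = i := by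
  obtain ⟨h, hmask⟩ := locAll_ok
  obtain ⟨k, -, hk⟩ := orbit_of_tree (gs := [0, 1, 2, 3]) (b := (0 : Fin 1755)) ⊤
    (fun g hg => ⟨gen_lt (by simp only [List.mem_cons, List.not_mem_nil, or_false] at hg; omega),
      Subgroup.mem_top _⟩) h (p := i) (by
      show (treeMask 11 0 locAll).testBit i = true
      rw [hmask, fullM, Nat.testBit_two_pow_sub_one]
      exact decide_eq_true i.2)
  exact ⟨k, hk⟩

/-- The action on the points. -/
noncomputable local instance nbAct : MulAction K (Fin 1755) := MulAction.compHom _ loc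

/-- The stabiliser of the first point. -/
noncomputable def J : Subgroup K := (MulAction.stabilizer L (0 : Fin 1755)).comap loc

theorem mem_J {k : K} : k ∈ J ↔ loc k 0 = 0 := Iff.rfl

theorem card_J : Nat.card J = 20480 := by
  haveI : MulAction.IsPretransitive K (Fin 1755) := ⟨fun i j => by
    obtain ⟨u, hu⟩ := trans_all i
    obtain ⟨w, hw⟩ := trans_all j
    refine ⟨w * u⁻¹, ?_⟩
    show loc (w * u⁻¹) i = j
    rw [map_mul, map_inv, Equiv.Perm.mul_apply, Equiv.Perm.inv_eq_iff_eq.2 hu.symm, hw]⟩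
  have h := (MulAction.stabilizer K (0 : Fin 1755)).card_mul_index
  rw [MulAction.index_stabilizer_of_transitive, Nat.card_fin, card_K] at h
  have e : MulAction.stabilizer K (0 : Fin 1755) = J := Subgroup.ext fun k => Iff.rfl
  rw [e] at h
  omega

theorem jG_mem : ∀ g ∈ jG, g < numEl ∧ el g ∈ J := by
  intro g hg
  have hlt : g < numEl := by simpa using List.all_eq_true.1 names_ok.1 g (by simp [hg])
  refine ⟨hlt, Fin.ext ?_⟩
  show (loc (el g) 0 : ℕ) = 0
  rw [← show prodE [g] = el g by simp [prodE], ← appL_eq (l := [g]) (by simpa using hlt)]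
  exact Nat.eq_of_beq_eq_true (List.all_eq_true.1 jG_ok.1 g hg)

/-- A point in a class. -/
noncomputable def bP (k : Fin 4) : Fin 1755 := ⟨nearB.getD k 0, by
  have h := List.all_eq_true.1 near_ok.2.2.2.1 k (List.mem_range.2 k.2)
  simp only [Bool.and_eq_true, Nat.blt_eq] at h
  exact h.1⟩

/-- A point opposite to the first one. -/
noncomputable def away : Fin 1755 := bP 3

theorem away_val : (away : ℕ) = awayI := near_ok.2.2.1

/-- The number of common neighbours. -/
noncomputable def com (i j : Fin 1755) : ℕ := (Finset.univ.filter fun r => Alj i r ∧ Alj j r).card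

theorem com_perm {σ : L} (hσ : ∀ i j, Alj (σ i) (σ j) ↔ Alj i j) (i j : Fin 1755) :
    com (σ i) (σ j) = com i j :=
  (Finset.card_equiv σ fun r => by
    simp only [Finset.mem_filter, Finset.mem_univ, true_and, hσ]).symm

theorem com_loc (k : K) (i j : Fin 1755) : com (loc k i) (loc k j) = com i j := com_perm (loc_alj k) i j

/-- A class of adjacent pairs. -/
def Cls (k : ℕ) (i j : Fin 1755) : Prop := Alj i j ∧ com i j = comVal k

theorem cls_perm {σ : L} (hσ : ∀ i j, Alj (σ i) (σ j) ↔ Alj i j) (k : ℕ) (i j : Fin 1755) :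
    Cls k (σ i) (σ j) ↔ Cls k i j := by
  rw [Cls, Cls, hσ, com_perm hσ]

theorem cls_loc (g : K) (k : ℕ) (i j : Fin 1755) : Cls k (loc g i) (loc g j) ↔ Cls k i j :=
  cls_perm (loc_alj g) k i j

theorem comVal_inj : ∀ k < 4, ∀ l < 4, comVal k = comVal l → k = l := by decide

theorem base_com (k : Fin 4) : (Alj 0 (bP k) ↔ (k : ℕ) < 3) ∧ com 0 (bP k) = comVal k := by
  have h := List.all_eq_true.1 com_ok.1 k (List.mem_range.2 k.2)
  simp only [Bool.and_eq_true, beq_iff_eq, Nat.beq_eq] at h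
  refine ⟨?_, ?_⟩
  · rw [alj_iff, show ((0 : Fin 1755) : ℕ) = 0 from rfl, show ((bP k : Fin 1755) : ℕ) = nearB.getD k 0 from rfl,
      h.1, Nat.blt_eq]
  · rw [← h.2]
    exact card_filter_range fun r => by rw [Bool.and_eq_true, alj_iff, alj_iff]; rfl

/-- An orbit of the stabiliser of the first point, as a number. -/
def m4 (k : ℕ) : ℕ := treeMask 11 (nearB.getD k 0) (nearT.getD k [])

theorem m4_mask {k : ℕ} (hk : k < 3) : m4 k = mask0At k :=
  Nat.eq_of_beq_eq_true (List.all_eq_true.1 near_ok.2.2.2.2.1 k (List.mem_range.2 hk))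

theorem tree_point {k : Fin 4} {i : Fin 1755} (hk : (m4 k).testBit i = true) : ∃ g ∈ J, loc g (bP k) = i := by
  have h' := List.all_eq_true.1 near_ok.2.2.2.1 k (List.mem_range.2 k.2)
  simp only [Bool.and_eq_true] at h'
  exact orbit_of_tree J jG_mem (b := bP k) h'.2 hk

theorem cover_bits (i : ℕ) : (i < 1755 ∧ i ≠ 0) ↔ ∃ k : Fin 4, (m4 k).testBit i = true := by
  have e : fullM - 1 = 2 ^ 1755 - (1 + 1) := by rw [fullM, Nat.sub_sub]
  have h1 : (i < 1755 ∧ i ≠ 0) ↔ (fullM - 1).testBit i = true := by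
    rw [e, Nat.testBit_two_pow_sub_succ (Nat.one_lt_two_pow (by norm_num)) i]
    simp only [Bool.and_eq_true, decide_eq_true_eq, Bool.not_eq_true']
    rw [show (1 : ℕ) = 2 ^ 0 from rfl, Nat.testBit_two_pow, decide_eq_false_iff_not]
    exact and_congr Iff.rfl ne_comm
  have h3 : treeMask 11 awayI (nearT.getD 3 []) = m4 3 := by rw [m4, near_ok.2.2.1]
  rw [h1, ← near_ok.2.2.2.2.2, h3, ← m4_mask (k := 0) (by norm_num), ← m4_mask (k := 1) (by norm_num),
    ← m4_mask (k := 2) (by norm_num)]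
  simp only [show ∀ p q : ℕ, Nat.lor p q = p ||| q from fun _ _ => rfl, Nat.testBit_lor, Bool.or_eq_true]
  constructor
  · rintro ((h | h) | h | h)
    exacts [⟨0, h⟩, ⟨1, h⟩, ⟨2, h⟩, ⟨3, h⟩]
  · rintro ⟨k, h⟩
    fin_cases k
    exacts [Or.inl (Or.inl h), Or.inl (Or.inr h), Or.inr (Or.inl h), Or.inr (Or.inr h)]

theorem class_rep {i : Fin 1755} (h : i ≠ 0) : ∃ k : Fin 4, ∃ g ∈ J, loc g (bP k) = i := by
  obtain ⟨k, hk⟩ := (cover_bits i).1 ⟨i.2, fun e => h (Fin.ext e)⟩
  exact ⟨k, tree_point hk⟩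

theorem class_pair {i j : Fin 1755} (h : i ≠ j) : ∃ k : Fin 4, ∃ g : K, loc g 0 = i ∧ loc g (bP k) = j := by
  obtain ⟨u, rfl⟩ := trans_all i
  obtain ⟨j, rfl⟩ := (loc u).surjective j
  obtain ⟨k, g, hg, rfl⟩ := class_rep (i := j) fun e => h (congrArg _ e.symm)
  exact ⟨k, u * g, by rw [map_mul, Equiv.Perm.mul_apply, mem_J.1 hg], by rw [map_mul, Equiv.Perm.mul_apply]⟩

theorem adj_rep {g : K} (hg : g ∈ J) (k : Fin 4) :
    (Alj 0 (loc g (bP k)) ↔ (k : ℕ) < 3) ∧ com 0 (loc g (bP k)) = comVal k := by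
  have e := mem_J.1 hg
  constructor
  · conv_lhs => rw [← e, loc_alj]
    exact (base_com k).1
  · conv_lhs => rw [← e, com_loc]
    exact (base_com k).2

theorem m4_iff (k : Fin 4) (i : Fin 1755) : (m4 k).testBit i = true ↔ ∃ g ∈ J, loc g (bP k) = i := by
  refine ⟨tree_point, ?_⟩
  rintro ⟨g, hg, rfl⟩
  have hb : (m4 k).testBit (bP k : ℕ) = true := treeMask_start _ _
  have hne : loc g (bP k) ≠ 0 := fun e => ((cover_bits _).2 ⟨k, hb⟩).2
    (congrArg Fin.val ((loc g).injective (e.trans (mem_J.1 hg).symm)))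
  obtain ⟨l, hl⟩ := (cover_bits _).1 ⟨Fin.is_lt _, fun e => hne (Fin.ext e)⟩
  obtain ⟨g', hg', e⟩ := tree_point hl
  have h2 := (adj_rep hg' l).2
  rw [e, (adj_rep hg k).2] at h2
  obtain rfl : k = l := Fin.ext (comVal_inj k k.2 l l.2 h2)
  exact hl

theorem mask0_iff {k : ℕ} (hk : k < 3) (i : Fin 1755) : (mask0At k).testBit i = true ↔ Cls k 0 i := by
  rw [← m4_mask hk, show m4 k = m4 (⟨k, by omega⟩ : Fin 4) from rfl, m4_iff]
  constructor
  · rintro ⟨g, hg, rfl⟩
    exact ⟨(adj_rep hg ⟨k, by omega⟩).1.2 hk, (adj_rep hg ⟨k, by omega⟩).2⟩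
  · intro hc
    have hne : i ≠ 0 := fun e => alj_irrefl _ (e ▸ hc.1)
    obtain ⟨l, g, hg, rfl⟩ := class_rep hne
    refine ⟨g, hg, ?_⟩
    rw [show (⟨k, by omega⟩ : Fin 4) = l from
      Fin.ext (comVal_inj k (by omega) l l.2 (hc.2.symm.trans (adj_rep hg l).2))]

theorem mask0_lt {k : ℕ} (hk : k < 3) (i : ℕ) (hi : (mask0At k).testBit i = true) : i < 1755 :=
  ((cover_bits i).2 ⟨⟨k, by omega⟩, by rw [show ((⟨k, by omega⟩ : Fin 4) : ℕ) = k from rfl, m4_mask hk]; exact hi⟩).1

theorem cls_unique {k l : ℕ} (hk : k < 4) (hl : l < 4) {i j : Fin 1755} (h : Cls k i j) (h' : Cls l i j) : k = l :=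
  comVal_inj k hk l hl (h.2.symm.trans h'.2)

theorem cls_exists {i j : Fin 1755} (h : Alj i j) : ∃ k, k < 3 ∧ Cls k i j := by
  have hne : i ≠ j := fun e => alj_irrefl i (by rw [← e] at h; exact h)
  obtain ⟨k, g, rfl, rfl⟩ := class_pair hne
  exact ⟨k, (base_com k).1.1 ((loc_alj _ _ _).1 h), h, (com_loc _ _ _).trans (base_com k).2⟩

theorem apart_base {i j : Fin 1755} (h : ¬ Alj i j) (hne : i ≠ j) :
    ∃ g : K, loc g 0 = i ∧ loc g away = j := by
  obtain ⟨k, g, rfl, rfl⟩ := class_pair hne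
  have h3 : ¬ (k : ℕ) < 3 := fun hk => h ((loc_alj _ _ _).2 ((base_com k).1.2 hk))
  obtain rfl : k = 3 := by have := k.2; refine Fin.ext ?_; show (k : ℕ) = 3; omega
  exact ⟨g, rfl, rfl⟩

/-- The points in a class relative to the first one. -/
noncomputable def classSet (k : Fin 4) : Finset (Fin 1755) :=
  Finset.univ.filter fun i => (m4 k).testBit i = true

theorem card_classSet (k : Fin 4) : (classSet k).card = [10, 80, 640, 1024].getD k 0 := by
  rw [classSet, pop_card (fun i hi => ((cover_bits i).2 ⟨k, hi⟩).1) _ fun i => Iff.rfl]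
  have h := com_ok.2.1
  fin_cases k
  · show popW (m4 0) = 10
    rw [m4_mask (by norm_num)]; exact (List.cons.inj h).1
  · show popW (m4 1) = 80
    rw [m4_mask (by norm_num)]; exact (List.cons.inj (List.cons.inj h).2).1
  · show popW (m4 2) = 640
    rw [m4_mask (by norm_num)]; exact (List.cons.inj (List.cons.inj (List.cons.inj h).2).2).1
  · show popW (m4 3) = 1024
    rw [m4, near_ok.2.2.1]; exact com_ok.2.2.1

theorem card_away_stab : Nat.card {g : K // g ∈ J ∧ loc g away = away} = 20 := by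
  let F := MulAction.stabilizer J away
  have horb : (MulAction.orbit J away).ncard = 1024 := by
    rw [← show (classSet 3).card = 1024 from card_classSet 3, ← Set.ncard_coe_finset]
    refine congrArg Set.ncard (Set.ext fun i => ?_)
    simp only [classSet, Finset.coe_filter, Finset.mem_univ, true_and, Set.mem_ofPred_eq]
    rw [m4_iff]
    exact ⟨fun ⟨g, e⟩ => ⟨g.1, g.2, e⟩, fun ⟨g, hg, e⟩ => ⟨⟨g, hg⟩, e⟩⟩
  have h := F.card_mul_index
  rw [MulAction.index_stabilizer, horb, card_J] at h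
  have e : Nat.card F = Nat.card {g : K // g ∈ J ∧ loc g away = away} := Nat.card_congr
    { toFun := fun g => ⟨((g : J) : K), (g : J).2, g.2⟩
      invFun := fun g => ⟨⟨g.1, g.2.1⟩, g.2.2⟩
      left_inv := fun _ => rfl
      right_inv := fun _ => rfl }
  omega

end CfsgLib.Sporadic.RuRank
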