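import Cfsg.Agent.Lib.KnownC.RuGroup.Tits
import Cfsg.Agent.Lib.Sporadic.RuRank.CheckGroup
import Cfsg.Agent.Lib.Sporadic.RuRank.CheckLocal

/-!
The model: the Rudvalis group on 4060 lines, the stabiliser of a line and its action on the 1755 lines
orthogonal to it.
-/

set_option autoImplicit false
set_option maxRecDepth 100000

namespace CfsgLib.Sporadic.RuRank

open CfsgLib.Sporadic.OutCert
open CfsgLib.KnownC.RuGroup (orthK titL titP titS tl tl_inj orth_tl exists_tl orthK_iff Pres permRu pres_ruHom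
  Stab toP_pres stabPerm tl_ptImg stabPerm_injective card_stab mem_range_gen sep_inj sepS titS_orth sigS)
open CfsgLib.Schur.Sporadic.Tits (genK hw rep_gen)

attribute [local irreducible] lk pkF allF compK oneK genK steps orthK titL titP titS farMask yI zI nR mask0 clsM

/-- Permutations of the 4060 lines. -/
abbrev P : Type := Equiv.Perm (Fin 4060)

/-- Permutations of the 1755 points. -/
abbrev L : Type := Equiv.Perm (Fin 1755)

/-- The stabiliser of the first line. -/
abbrev K : Type := Stab

/-- The action of the stabiliser on the lines. -/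
noncomputable def act : K →* P := permRu.subtype.comp (Subgroup.subtype _)

/-- Adjacency of lines. -/
def Adj (x y : Fin 4060) : Prop := orthK x y = true

theorem pres_mem {g : P} (hg : g ∈ permRu) : Pres g := by
  obtain ⟨c, rfl⟩ := hg
  exact pres_ruHom c

theorem act_adj (k : K) (x y : Fin 4060) : Adj (act k x) (act k y) ↔ Adj x y := by
  show orthK (act k x : ℕ) (act k y : ℕ) = true ↔ orthK x y = true
  rw [show orthK (act k x : ℕ) (act k y : ℕ) = orthK x y from toP_pres k x y]

theorem act_zero (k : K) : act k 0 = 0 := k.2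

theorem adj_symm {x y : Fin 4060} (h : Adj x y) : Adj y x := (orthK_iff y x).2 ((orthK_iff x y).1 h).symm

theorem adj_irrefl (x : Fin 4060) : ¬ Adj x x := by
  obtain ⟨g, rfl⟩ := MulAction.exists_smul_eq permRu (0 : Fin 4060) x
  show ¬ orthK (((g : P) 0 : Fin 4060) : ℕ) ((g : P) 0 : Fin 4060) = true
  rw [pres_mem g.2 0 0, show ((0 : Fin 4060) : ℕ) = 0 from rfl, com_ok.2.2.2.2]
  exact Bool.false_ne_true

theorem adj_tl (i : Fin 1755) : Adj 0 (tl i) := (orth_tl i).1

theorem exists_nb {x : Fin 4060} (h : Adj 0 x) : ∃ i, tl i = x := by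
  obtain ⟨i, hi, -⟩ := exists_tl h
  exact ⟨i, hi⟩

/-- Adjacency of points. -/
def Alj (i j : Fin 1755) : Prop := Adj (tl i) (tl j)

theorem alj_iff (i j : Fin 1755) : Alj i j ↔ aljK i j = true := Iff.rfl

theorem alj_symm {i j : Fin 1755} (h : Alj i j) : Alj j i := adj_symm h

theorem alj_irrefl (i : Fin 1755) : ¬ Alj i i := adj_irrefl _

/-- The action of the stabiliser on the points. -/
noncomputable abbrev loc : K →* L := stabPerm

theorem tl_loc (k : K) (i : Fin 1755) : tl (loc k i) = act k (tl i) := tl_ptImg k i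

theorem loc_alj (k : K) (i j : Fin 1755) : Alj (loc k i) (loc k j) ↔ Alj i j := by
  rw [Alj, Alj, tl_loc, tl_loc, act_adj]

theorem loc_injective : Function.Injective loc := stabPerm_injective

theorem card_K : Nat.card K = 35942400 := card_stab

/-- A line is orthogonal to a point. -/
def Mu (v : Fin 4060) (i : Fin 1755) : Prop := Adj v (tl i)

theorem mu_loc (k : K) (v : Fin 4060) (i : Fin 1755) : Mu (act k v) (loc k i) ↔ Mu v i := by
  rw [Mu, Mu, tl_loc, act_adj]

theorem key_injective {v w : Fin 4060} (h : ∀ q ∈ titS, orthK v q = orthK w q) : v = w := by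
  refine Fin.ext (sep_inj sepS v.2 w.2 ?_)
  have key : ∀ M : List ℕ, (∀ q ∈ M, orthK v q = orthK w q) →
      (List.rec 0 (fun q _ r => Nat.add (cond (orthK v q) 1 0) (Nat.mul 2 r)) M : ℕ) =
        List.rec 0 (fun q _ r => Nat.add (cond (orthK w q) 1 0) (Nat.mul 2 r)) M := by
    intro M
    induction M with
    | nil => intro _; rfl
    | cons q M ih =>
      intro hM
      simp only [hM q List.mem_cons_self, ih fun x hx => hM x (List.mem_cons_of_mem _ hx)]
  unfold sigS
  exact key titS h

theorem sep_facts {q : ℕ} (hq : q ∈ titS) : ∃ i : Fin 1755, (tl i : ℕ) = q ∧ (i : ℕ) = titP q := by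
  have h := List.all_eq_true.1 titS_orth q hq
  simp only [Bool.and_eq_true, Nat.blt_eq] at h
  obtain ⟨i, hi, hi'⟩ := exists_tl (l := ⟨q, h.1⟩) h.2
  exact ⟨i, congrArg Fin.val hi, hi'⟩

theorem mu_injective {v w : Fin 4060} (h : ∀ i, Mu v i ↔ Mu w i) : v = w :=
  key_injective fun q hq => by
    obtain ⟨i, rfl, -⟩ := sep_facts hq
    exact Bool.eq_iff_iff.2 (h i)

instance : Finite K := Nat.finite_of_card_ne_zero (by rw [card_K]; norm_num)

/-! ### Named elements -/

theorem exists_el (i : ℕ) (hi : i < numEl) : ∃ k : K, Rep 11 1755 (val i) (loc k) := by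
  obtain ⟨g, ⟨k, rfl⟩, hg⟩ := slp_sound hw slp_ok.1 (S := loc.range) (fun j hj => by
    rw [slp_ok.2] at hj
    exact ⟨_, mem_range_gen ⟨j, hj⟩, rep_gen ⟨j, hj⟩⟩) i hi
  exact ⟨k, hg⟩

/-- A named element. -/
noncomputable def el (i : ℕ) : K := if h : i < numEl then (exists_el i h).choose else 1

theorem rep_el {i : ℕ} (hi : i < numEl) : Rep 11 1755 (val i) (loc (el i)) := by
  rw [el, dif_pos hi]
  exact (exists_el i hi).choose_spec

theorem gen_lt {x : ℕ} (hx : x < 4) : x < numEl := by
  show x < genK.length + steps.length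
  rw [slp_ok.2]; omega

/-- A product of named elements. -/
noncomputable def prodE (l : List ℕ) : K := (l.map el).prod

theorem prodE_append (l m : List ℕ) : prodE (l ++ m) = prodE l * prodE m := by simp [prodE]

theorem prodE_cons (i : ℕ) (m : List ℕ) : prodE (i :: m) = el i * prodE m := by simp [prodE]

theorem prodE_replicate (n i : ℕ) : prodE (List.replicate n i) = el i ^ n := by simp [prodE]

theorem appL_eq : ∀ {l : List ℕ}, (∀ i ∈ l, i < numEl) → ∀ u : Fin 1755, appL l u = (loc (prodE l) u : ℕ)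
  | [], _, u => by simp [appL, appK, prodE]
  | i :: l, h, u => by
    show lk 11 (val i) (appL l u) = _
    rw [appL_eq (fun j hj => h j (List.mem_cons_of_mem _ hj)) u, prodE_cons, map_mul, Equiv.Perm.mul_apply]
    exact rep_el (h i List.mem_cons_self) _

theorem prodE_eq {l m : List ℕ} (hl : ∀ i ∈ l, i < numEl) (hm : ∀ i ∈ m, i < numEl)
    (h : sameL l m = true) : prodE l = prodE m :=
  loc_injective (Equiv.ext fun u => Fin.ext (by
    rw [← appL_eq hl, ← appL_eq hm]
    exact Nat.eq_of_beq_eq_true (allF_iff.1 h u u.2)))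

theorem prodE_one {l : List ℕ} (hl : ∀ i ∈ l, i < numEl) (h : sameL l [] = true) : prodE l = 1 :=
  prodE_eq hl (m := []) (by simp) h

theorem word_mem {S : Subgroup K} {l : List ℕ} (h : ∀ i ∈ l, el i ∈ S) : prodE l ∈ S :=
  list_prod_mem fun x hx => by
    obtain ⟨i, hi, rfl⟩ := List.mem_map.1 hx
    exact h i hi

/-! ### Trees -/

theorem treeMask_testBit {Q : ℕ → Prop} {gs : List ℕ}
    (hstep : ∀ g ∈ gs, ∀ u, Q u → Q (lk 11 (val g) u)) :
    ∀ (l : List ℕ) (m : ℕ), treeK gs l m = true → (∀ p, m.testBit p = true → Q p) →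
      ∀ p, (l.foldl (fun m e => m ||| 2 ^ tY 11 e) m).testBit p = true → Q p
  | [], _, _, hm => hm
  | e :: l, m, h, hm => by
    simp only [treeK, Bool.and_eq_true, Nat.blt_eq, Nat.beq_eq] at h
    obtain ⟨hg, hq, himg, hrest⟩ := h
    refine treeMask_testBit hstep l _ hrest fun p hp => ?_
    rw [Nat.testBit_lor, Bool.or_eq_true, Nat.testBit_two_pow, decide_eq_true_eq] at hp
    rcases hp with hp | rfl
    · exact hm p hp
    · rw [← himg, List.getD_eq_getElem _ _ hg]
      exact hstep _ (List.getElem_mem hg) _ (hm _ hq)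

theorem treeMask_start (b : ℕ) (l : List ℕ) : (treeMask 11 b l).testBit b = true := by
  have key : ∀ (l : List ℕ) (m : ℕ), m.testBit b = true →
      (l.foldl (fun m e => m ||| 2 ^ tY 11 e) m).testBit b = true := by
    intro l
    induction l with
    | nil => exact fun m h => h
    | cons a l ih => exact fun m h => ih _ (by rw [Nat.testBit_lor, h, Bool.true_or])
  exact key l _ Nat.testBit_two_pow_self

theorem orbit_of_tree {gs : List ℕ} {b : Fin 1755} (S : Subgroup K) (hgs : ∀ g ∈ gs, g < numEl ∧ el g ∈ S)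
    {l : List ℕ} (h : treeK gs l (2 ^ (b : ℕ)) = true) {p : Fin 1755}
    (hp : (treeMask 11 b l).testBit p = true) : ∃ k ∈ S, loc k b = p := by
  have := treeMask_testBit (Q := fun u => ∃ k ∈ S, (loc k b : ℕ) = u) (fun g hg u ⟨k, hk, hu⟩ => by
    refine ⟨el g * k, mul_mem (hgs g hg).2 hk, ?_⟩
    rw [map_mul, Equiv.Perm.mul_apply, ← hu]
    exact (rep_el (hgs g hg).1 _).symm) l _ h (fun u hu => by
    rw [Nat.testBit_two_pow, decide_eq_true_eq] at hu
    exact ⟨1, one_mem S, by rw [map_one]; exact hu⟩) p hp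
  obtain ⟨k, hk, e⟩ := this
  exact ⟨k, hk, Fin.ext e⟩

theorem card_filter_range {N : ℕ} {p : Fin N → Prop} [DecidablePred p] {b : ℕ → Bool}
    (h : ∀ i : Fin N, p i ↔ b i = true) :
    (Finset.univ.filter p).card = (List.range N).countP b := by
  classical
  rw [← List.map_coe_finRange_eq_range, List.countP_map, List.countP_eq_length_filter,
    ← List.toFinset_card_of_nodup ((List.nodup_finRange N).filter _)]
  congr 1
  ext i
  simp [h i]

end CfsgLib.Sporadic.RuRank
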