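import Cfsg.Agent.Lib.Sporadic.RuRank.Ident
import Cfsg.Agent.Lib.Sporadic.RuRank.Index

/-!
A transitive group of degree 4060 with point stabiliser `²F₄(2)` and suborbits of sizes 1755 and 2304 is the
Rudvalis group.
-/

set_option autoImplicit false
set_option maxRecDepth 100000

open scoped Classical

namespace CfsgLib.Sporadic.RuRank

open CfsgLib.Chevalley.TitsGroup

/-- A subgroup of order 20480 of the stabiliser of a line fixes a point. -/
theorem fix_point (H : Subgroup K) (hH : Nat.card H = 20480) :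
    ∃ p : Fin 1755, ∀ g, g ∈ H ↔ loc g p = p := by
  obtain ⟨E, -⟩ := exists_stabEquiv
  have hc : ∀ S : Subgroup K, Nat.card S = 20480 → Nat.card (S.map E.symm.toMonoidHom) = 20480 := fun S hS => by
    rw [← Nat.card_congr (S.equivMapOfInjective _ E.symm.injective).toEquiv, hS]
  obtain ⟨t, ht⟩ := conj_of_card (H.map E.symm.toMonoidHom) (J.map E.symm.toMonoidHom) (hc H hH) (hc J card_J)
  refine ⟨loc (E t)⁻¹ 0, fun g => ?_⟩
  have hmem : ∀ (S : Subgroup K) (x : K), E.symm x ∈ S.map E.symm.toMonoidHom ↔ x ∈ S := fun S x => by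
    rw [Subgroup.mem_map]
    exact ⟨fun ⟨y, hy, e⟩ => E.symm.injective e ▸ hy, fun h => ⟨x, h, rfl⟩⟩
  have key : g ∈ H ↔ E t * g * (E t)⁻¹ ∈ J := by
    rw [← hmem H, ← hmem J, map_mul, map_mul, map_inv, MulEquiv.symm_apply_apply, ← ht, Subgroup.mem_map]
    exact ⟨fun h => ⟨_, h, rfl⟩, fun ⟨y, hy, e⟩ => (MulAut.conj t).injective e ▸ hy⟩
  rw [key, mem_J, map_mul, map_mul, map_inv, Equiv.Perm.mul_apply, Equiv.Perm.mul_apply]
  exact Equiv.apply_eq_iff_eq_symm_apply _

/-- Recognition of the Rudvalis group in its action of degree 4060. -/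
theorem recognize {Ω : Type*} [Fintype Ω] [DecidableEq Ω] (hΩ : Fintype.card Ω = 4060)
    (G : Subgroup (Equiv.Perm Ω)) [MulAction.IsPretransitive G Ω] (a : Ω)
    (e : MulAction.stabilizer G a ≃* Cfsg.Lie.twistedF4 (ZMod 2) 1) (b c : Ω)
    (hb : (MulAction.orbit (MulAction.stabilizer G a) b).ncard = 1755)
    (hc : (MulAction.orbit (MulAction.stabilizer G a) c).ncard = 2304) : Cfsg.Spor.IsoRu G := by
  obtain ⟨T⟩ := exists_iso
  obtain ⟨E, -⟩ := exists_stabEquiv
  exact recognize_of hΩ G a (e.trans (T.trans E)) fix_point b c hb hc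

end CfsgLib.Sporadic.RuRank
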