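import Cfsg.Agent.Lib.Sporadic.RuRank.Classes
import Cfsg.Agent.Lib.Sporadic.RuRank.CheckSearch
import Cfsg.Agent.Lib.Sporadic.RuRank.CheckFar

/-!
The searches: a set of 780 points invariant under one of seven groups of order 100, with the right numbers of
neighbours in each class, is the set of points orthogonal to a distant line.
-/

set_option autoImplicit false
set_option maxRecDepth 100000

namespace CfsgLib.Sporadic.RuRank

open CfsgLib.Sporadic.OutCert
open CfsgLib.KnownC.RuGroup (orthK titL tl)
open scoped Classical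

attribute [local irreducible] lk pkF allF compK oneK steps mask0 clsM repW popW qM qR qT qS qF solM solV xL nR
  farMask aljK orthK fullM

/-- The conditions on a candidate set. -/
def SetOK (S : Fin 1755 → Prop) : Prop :=
  (Finset.univ.filter S).card = 780 ∧
    ∀ p, S p → ∀ k < 3, (Finset.univ.filter fun q => S q ∧ Cls k p q).card = nuVal k

/-- A state of the search allows a set. -/
def Compat (I P : ℕ) (S : Fin 1755 → Prop) : Prop :=
  (∀ i : Fin 1755, I.testBit i = true → S i) ∧ (∀ i : Fin 1755, S i → P.testBit i = true) ∧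
    (∀ i, I.testBit i = true → i < 1755) ∧ ∀ i, P.testBit i = true → i < 1755

theorem qGens_lt {X : ℕ} : ∀ g ∈ qGens X, X < 7 → g < numEl := by
  intro g hg hX
  simp only [qGens, List.mem_cons, List.mem_map] at hg
  rcases hg with rfl | rfl | ⟨t, ht, rfl⟩
  · simpa using List.all_eq_true.1 names_ok.1 yI (by simp)
  · simpa using List.all_eq_true.1 names_ok.1 zI (by simp)
  · have hXl : X < xL.length := by rw [subsets_ok.2.1]; exact hX
    rw [List.getD_eq_getElem _ _ hXl] at ht
    have h := List.all_eq_true.1 (List.all_eq_true.1 subsets_ok.2.2 _ (List.getElem_mem hXl)) t ht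
    simp only [Bool.and_eq_true, Nat.blt_eq] at h
    have hl : (nR.getD t []).length = 1 := by
      have h' := List.all_eq_true.1 names_ok.2.2.2.2.1 t (List.mem_range.2 h.1.2)
      simp only [Bool.or_eq_true, Nat.beq_eq] at h'
      exact h'.resolve_left (by omega)
    obtain ⟨x, hx⟩ := List.length_eq_one_iff.1 hl
    have ht' : t < nR.length := by rw [names_ok.2.2.1]; exact h.1.2
    have h2 := List.all_eq_true.1 (List.all_eq_true.1 names_ok.2.1 _ (List.getElem_mem ht')) x
      (by rw [← List.getD_eq_getElem _ [] ht', hx]; exact List.mem_singleton_self _)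
    rw [hx]
    simpa using h2

theorem orb_facts {X o : ℕ} (hX : X < 7) (ho : o < (qM.getD X []).length) :
    ∃ hr : (qR.getD X []).getD o 0 < repW.length,
      (orbAt X o).testBit (ptP hr : ℕ) = true ∧ (∀ i, (orbAt X o).testBit i = true → i < 1755) ∧
      ∀ S : Fin 1755 → Prop, (∀ g ∈ qGens X, ∀ i, S (loc (el g) i) ↔ S i) →
        ∀ i : Fin 1755, (orbAt X o).testBit i = true → (S i ↔ S (ptP hr)) := by
  have h := List.all_eq_true.1 orb_ok X (List.mem_range.2 hX)
  simp only [Bool.and_eq_true, List.all_eq_true, List.mem_range, Nat.blt_eq, Nat.beq_eq] at h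
  obtain ⟨⟨hr, ht⟩, hm⟩ := h.2 o ho
  refine ⟨hr, ?_, ?_, ?_⟩
  · rw [← hm]
    exact treeMask_start _ _
  · intro i hi
    rw [← hm] at hi
    refine treeMask_testBit (Q := fun u => u < 1755) (fun g hg u hu => ?_) _ _ ht (fun p hp => ?_) i hi
    · have := rep_el (qGens_lt g hg hX) ⟨u, hu⟩
      rw [show lk 11 (val g) u = _ from this]
      exact Fin.is_lt _
    · rw [Nat.testBit_two_pow, decide_eq_true_eq] at hp
      rw [← hp]
      exact (rep_facts hr).choose_spec.1
  · intro S hS i hi
    rw [← hm] at hi
    obtain ⟨k, hk, rfl⟩ := orbit_of_tree (b := ptP hr) (Subgroup.closure (el '' {g | g ∈ qGens X}))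
      (fun g hg => ⟨qGens_lt g hg hX, Subgroup.subset_closure ⟨g, hg, rfl⟩⟩) ht hi
    have key : ∀ j, S (loc k j) ↔ S j := by
      clear hi
      induction hk using Subgroup.closure_induction with
      | mem y hy => obtain ⟨g, hg, rfl⟩ := hy; exact hS g hg
      | one => intro j; rw [map_one]; rfl
      | mul u v _ _ hu hv => intro j; rw [map_mul, Equiv.Perm.mul_apply, hu, hv]
      | inv u _ hu =>
        intro j
        have h' := hu (loc u⁻¹ j)
        rw [map_inv] at h' ⊢
        rw [show loc u ((loc u)⁻¹ j) = j from (loc u).apply_symm_apply j] at h'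
        exact h'.symm
    exact key _

theorem count_le {S : Fin 1755 → Prop} {I r k : ℕ} (hr : r < repW.length) (hk : k < 3)
    (hI : ∀ i : Fin 1755, I.testBit i = true → S i) (hI' : ∀ i, I.testBit i = true → i < 1755) :
    popW (Nat.land (clsAt r k) I) ≤ (Finset.univ.filter fun q => S q ∧ Cls k (ptP hr) q).card := by
  rw [← pop_card (fun i => land_full hI') (fun q : Fin 1755 => (Nat.land (clsAt r k) I).testBit q = true)
    fun q => Iff.rfl]
  refine Finset.card_le_card fun q hq => ?_
  simp only [Finset.mem_filter, Finset.mem_univ, true_and] at hq ⊢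
  rw [show Nat.land (clsAt r k) I = clsAt r k &&& I from rfl, Nat.testBit_land, Bool.and_eq_true] at hq
  exact ⟨hI q hq.2, (cls_bit hr hk q).1 hq.1⟩

theorem count_ge {S : Fin 1755 → Prop} {Pm r k : ℕ} (hr : r < repW.length) (hk : k < 3)
    (hP : ∀ i : Fin 1755, S i → Pm.testBit i = true) (hP' : ∀ i, Pm.testBit i = true → i < 1755) :
    (Finset.univ.filter fun q => S q ∧ Cls k (ptP hr) q).card ≤ popW (Nat.land (clsAt r k) Pm) := by
  rw [← pop_card (fun i => land_full hP') (fun q : Fin 1755 => (Nat.land (clsAt r k) Pm).testBit q = true)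
    fun q => Iff.rfl]
  refine Finset.card_le_card fun q hq => ?_
  simp only [Finset.mem_filter, Finset.mem_univ, true_and] at hq ⊢
  rw [show Nat.land (clsAt r k) Pm = clsAt r k &&& Pm from rfl, Nat.testBit_land, Bool.and_eq_true]
  exact ⟨(cls_bit hr hk q).2 hq.2, hP q hq.1⟩

theorem search_sound {X : ℕ} (hX : X < 7) {S : Fin 1755 → Prop} (hS : SetOK S)
    (hinv : ∀ g ∈ qGens X, ∀ i, S (loc (el g) i) ↔ S i) :
    ∀ (l : List ℕ) (st : List (ℕ × ℕ)), searchK X l st = true → ∀ e ∈ st, Compat e.1 e.2 S →
      ∃ i < solM.length, ∀ x : Fin 1755, S x ↔ (solM.getD i 0).testBit x = true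
  | [], st, h, e, he, _ => by
    simp only [searchK, List.isEmpty_iff] at h
    subst h
    simp at he
  | c :: l, [], h, e, he, _ => by simp at he
  | c :: l, (I, Pm) :: st, h, e, he, hc => by
    have ih := search_sound hX hS hinv l
    simp only [searchK] at h
    cases hsplit : Nat.beq (c % 4) 3 with
    | true =>
      simp only [hsplit, cond_true, Bool.and_eq_true, Nat.blt_eq] at h
      obtain ⟨ho, hrest⟩ := h
      obtain ⟨hr, -, hbd, horb⟩ := orb_facts hX ho
      rcases List.mem_cons.1 he with rfl | he
      · obtain ⟨h1, h2, h3, h4⟩ := hc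
        dsimp only at h1 h2 h3 h4
        by_cases hp : S (ptP hr)
        · refine ih _ hrest _ List.mem_cons_self ⟨fun i hi => ?_, h2, fun i hi => ?_, h4⟩
          all_goals rw [show Nat.lor I (orbAt X (c / 4)) = I ||| orbAt X (c / 4) from rfl, Nat.testBit_lor,
            Bool.or_eq_true] at hi
          · exact hi.elim (h1 i) fun hb => (horb S hinv i hb).2 hp
          · exact hi.elim (h3 i) (hbd i)
        · refine ih _ hrest _ (List.mem_cons_of_mem _ List.mem_cons_self) ⟨h1, fun i hi => ?_, h3, fun i hi => ?_⟩
          · rw [show Nat.land Pm (Nat.xor fullM (orbAt X (c / 4))) = Pm &&& (fullM ^^^ orbAt X (c / 4)) from rfl,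
              Nat.testBit_land, Nat.testBit_xor, h2 i hi,
              show (orbAt X (c / 4)).testBit i = false from by
                by_contra hb
                rw [Bool.not_eq_false] at hb
                exact hp ((horb S hinv i hb).1 hi),
              show fullM.testBit i = true from by
                unfold fullM
                rw [Nat.testBit_two_pow_sub_one]
                exact decide_eq_true i.2]
            rfl
          · rw [show Nat.land Pm (Nat.xor fullM (orbAt X (c / 4))) = Pm &&& (fullM ^^^ orbAt X (c / 4)) from rfl,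
              Nat.testBit_land, Bool.and_eq_true] at hi
            exact h4 i hi.1
      · exact ih _ hrest e (List.mem_cons_of_mem _ (List.mem_cons_of_mem _ he)) hc
    | false =>
      simp only [hsplit, cond_false, Bool.and_eq_true] at h
      obtain ⟨hleaf, hrest⟩ := h
      rcases List.mem_cons.1 he with rfl | he
      swap
      · exact ih _ hrest e he hc
      obtain ⟨h1, h2, h3, h4⟩ := hc
      dsimp only at h1 h2 h3 h4
      have hsz1 : popW I ≤ 780 := by
        rw [← hS.1, ← pop_card h3 (fun i : Fin 1755 => I.testBit i = true) fun i => Iff.rfl]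
        exact Finset.card_le_card fun i hi => by
          simp only [Finset.mem_filter, Finset.mem_univ, true_and] at hi ⊢
          exact h1 i hi
      have hsz2 : 780 ≤ popW Pm := by
        rw [← hS.1, ← pop_card h4 (fun i : Fin 1755 => Pm.testBit i = true) fun i => Iff.rfl]
        exact Finset.card_le_card fun i hi => by
          simp only [Finset.mem_filter, Finset.mem_univ, true_and] at hi ⊢
          exact h2 i hi
      cases hb0 : Nat.beq (c % 4) 0 with
      | true =>
        exfalso
        simp only [hb0, cond_true, badK, Bool.and_eq_true, Bool.or_eq_true, Nat.blt_eq, Nat.beq_eq] at hleaf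
        obtain ⟨⟨⟨hsub, hk⟩, ho⟩, hbad⟩ := hleaf
        obtain ⟨hr, hpt, -, -⟩ := orb_facts hX ho
        have hp : S (ptP hr) := h1 _ (by
          rw [← hsub, show Nat.land I (orbAt X (c / 4 / 3)) = I &&& orbAt X (c / 4 / 3) from rfl,
            Nat.testBit_land, Bool.and_eq_true] at hpt
          exact hpt.1)
        have e1 := hS.2 _ hp _ hk
        have := count_le (S := S) hr hk h1 h3
        have := count_ge (S := S) hr hk h2 h4
        omega
      | false =>
        simp only [hb0, cond_false] at hleaf
        cases hb1 : Nat.beq (c % 4) 1 with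
        | true =>
          exfalso
          simp only [hb1, cond_true, Bool.or_eq_true, Nat.blt_eq] at hleaf
          omega
        | false =>
          simp only [hb1, cond_false, Bool.and_eq_true, Nat.beq_eq, Nat.blt_eq] at hleaf
          obtain ⟨hsz, hlt, hI⟩ := hleaf
          refine ⟨c / 4, hlt, fun x => ?_⟩
          rw [← hI]
          have heq : Finset.univ.filter (fun i : Fin 1755 => I.testBit i = true) = Finset.univ.filter S :=
            Finset.eq_of_subset_of_card_le (fun i hi => by
                simp only [Finset.mem_filter, Finset.mem_univ, true_and] at hi ⊢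
                exact h1 i hi)
              (by rw [hS.1, pop_card h3 _ fun i => Iff.rfl, hsz])
          have := Finset.ext_iff.1 heq x
          simp only [Finset.mem_filter, Finset.mem_univ, true_and] at this
          exact this.symm

/-- An invariant set with the right counts is the set of points of a distant line. -/
theorem set_class {X : ℕ} (hX : X < 7) {S : Fin 1755 → Prop} (hS : SetOK S) (h0 : S 0)
    (hquad : ∀ p q, S p → S q → Alj p q →
      (Finset.univ.filter fun r => S r ∧ Alj p r ∧ Alj q r).card ≠ 130)
    (hinv : ∀ g ∈ qGens X, ∀ i, S (loc (el g) i) ↔ S i) :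
    ∃ v : Fin 4060, farMask.testBit v = true ∧ ∀ i, S i ↔ Mu v i := by
  have hroot := List.all_eq_true.1 root_ok X (List.mem_range.2 hX)
  simp only [Bool.and_eq_true, Nat.blt_eq] at hroot
  obtain ⟨hr, -, hbd, horb⟩ := orb_facts hX hroot.1
  have hc : Compat (orbAt X (qF.getD X 0)) fullM S := by
    refine ⟨fun i hi => (horb S hinv i hi).2 ((horb S hinv 0 hroot.2).1 h0), fun i _ => ?_, hbd, fun i => lt_full⟩
    unfold fullM
    rw [Nat.testBit_two_pow_sub_one]
    exact decide_eq_true i.2
  obtain ⟨n, hn, hSn⟩ := search_sound hX hS hinv _ _ (List.all_eq_true.1 search_ok X (List.mem_range.2 hX)) _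
    List.mem_cons_self hc
  have h := List.all_eq_true.1 sol_ok n (List.mem_range.2 hn)
  rcases hv : solV.getD n (false, 0) with ⟨b, v⟩
  simp only [solOK, hv] at h
  cases b with
  | true =>
    simp only [cond_true, Bool.and_eq_true, Nat.blt_eq, allF_iff, beq_iff_eq] at h
    obtain ⟨⟨hlt, hfar⟩, hrow⟩ := h
    refine ⟨⟨v, hlt⟩, hfar, fun i => ?_⟩
    rw [hSn i, hrow i i.2]
    exact Iff.rfl
  | false =>
    simp only [cond_false, Bool.and_eq_true, Nat.blt_eq, Nat.beq_eq] at h
    obtain ⟨⟨⟨hlt, hbit⟩, hadj⟩, hcnt⟩ := h
    exfalso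
    refine hquad 0 ⟨v, hlt⟩ h0 ((hSn _).2 hbit) ((alj_iff _ _).2 hadj) (Eq.trans ?_ hcnt)
    refine card_filter_range fun r => ?_
    rw [Bool.and_eq_true, Bool.and_eq_true, ← hSn r, alj_iff, alj_iff]
    rfl

end CfsgLib.Sporadic.RuRank
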