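import Cfsg.Agent.Lib.Sporadic.RuRank.Local

/-!
A subgroup of order 15600 meeting the stabiliser of the first point in a group of order 20 contains, up to
conjugation in that stabiliser, one of seven named groups of order 100.
-/

set_option autoImplicit false
set_option maxRecDepth 100000

namespace CfsgLib.Sporadic.RuRank

open CfsgLib.Sporadic.OutCert
open scoped Classical

attribute [local irreducible] lk pkF allF compK oneK steps nR nTab nA nZ xL conjW nSep yI zI sameL

theorem fact_five {n a m : ℕ} (hm : ¬ 5 ∣ m) (h : n = 5 ^ a * m) : n.factorization 5 = a := by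
  have h0 : m ≠ 0 := fun e => hm (e ▸ dvd_zero _)
  rw [h, Nat.factorization_mul (pow_ne_zero _ (by norm_num)) h0, Nat.factorization_pow,
    Finsupp.add_apply, Finsupp.smul_apply, Nat.factorization_eq_zero_of_not_dvd hm,
    Nat.Prime.factorization_self (by norm_num)]
  simp

/-- The element of order five fixing the first point. -/
noncomputable def ey : K := el yI

/-- The element of order five commuting with it. -/
noncomputable def ez : K := el zI

theorem yz_lt : yI < numEl ∧ zI < numEl :=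
  ⟨by simpa using List.all_eq_true.1 names_ok.1 yI (by simp), by simpa using List.all_eq_true.1 names_ok.1 zI (by simp)⟩

theorem rep_lt (i : ℕ) : ∀ x ∈ List.replicate i yI ++ List.replicate i zI, x < numEl := by
  intro x hx
  rcases List.mem_append.1 hx with hx | hx <;> rw [List.eq_of_mem_replicate hx]
  exacts [yz_lt.1, yz_lt.2]

theorem ey_pow : ey ^ 5 = 1 := by
  rw [ey, ← prodE_replicate]
  exact prodE_one (fun x hx => rep_lt 5 x (List.mem_append_left _ hx)) y_ok.1

theorem ez_pow : ez ^ 5 = 1 := by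
  rw [ez, ← prodE_replicate]
  exact prodE_one (fun x hx => rep_lt 5 x (List.mem_append_right _ hx)) y_ok.2.1

theorem ey_comm : Commute ey ez := by
  have h := prodE_eq (l := [yI, zI]) (m := [zI, yI]) (by simp [yz_lt.1, yz_lt.2]) (by simp [yz_lt.1, yz_lt.2])
    y_ok.2.2.1
  simpa [prodE, Commute, SemiconjBy, ey, ez] using h

theorem ey_mem : ey ∈ J := by
  refine Fin.ext ?_
  show (loc (el yI) 0 : ℕ) = 0
  rw [← show prodE [yI] = el yI by simp [prodE], ← appL_eq (l := [yI]) (by simp [yz_lt.1])]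
  exact y_ok.2.2.2.1

theorem ey_ne : ey ≠ 1 := by
  intro e
  have h := appL_eq (l := [yI]) (by simp [yz_lt.1]) (1 : Fin 1755)
  rw [show prodE [yI] = ey by simp [prodE, ey], e, map_one loc] at h
  have h' := y_ok.2.2.2.2.1
  rw [show appL [yI] 1 = 1 from h] at h'
  simp at h'

theorem order_ey : orderOf ey = 5 := by
  haveI : Fact (Nat.Prime 5) := ⟨by norm_num⟩
  exact orderOf_eq_prime ey_pow ey_ne

/-- A representative in the normaliser. -/
noncomputable def nEl (t : ℕ) : K := prodE (nR.getD t [])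

theorem nR_lt {t : ℕ} (ht : t < 16) : ∀ x ∈ nR.getD t [], x < numEl := by
  intro x hx
  have ht' : t < nR.length := by rw [names_ok.2.2.1]; exact ht
  rw [List.getD_eq_getElem _ _ ht'] at hx
  simpa using List.all_eq_true.1 (List.all_eq_true.1 names_ok.2.1 _ (List.getElem_mem ht')) x hx

theorem nEl_zero : nEl 0 = 1 := by rw [nEl, names_ok.2.2.2.1]; rfl

theorem nEl_single {t : ℕ} (h1 : 0 < t) (h2 : t < 16) : el ((nR.getD t []).headD 0) = nEl t := by
  have h' := List.all_eq_true.1 names_ok.2.2.2.2.1 t (List.mem_range.2 h2)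
  simp only [Bool.or_eq_true, Nat.beq_eq] at h'
  obtain ⟨x, hx⟩ := List.length_eq_one_iff.1 (h'.resolve_left (by omega))
  rw [nEl, hx]
  simp [prodE]

theorem nEl_mem {t : ℕ} (ht : t < 16) : nEl t ∈ J := by
  refine Fin.ext ?_
  show (loc (nEl t) 0 : ℕ) = 0
  rw [nEl, ← appL_eq (nR_lt ht)]
  exact Nat.eq_of_beq_eq_true (List.all_eq_true.1 jG_ok.2.1 t (List.mem_range.2 ht))

theorem nEl_mul {s t : ℕ} (hs : s < 16) (ht : t < 16) : ((nTab.getD s []).getD t (0, 0)).1 < 16 ∧
    ∃ k, nEl s * nEl t = nEl ((nTab.getD s []).getD t (0, 0)).1 * ey ^ k := by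
  have h := List.all_eq_true.1 (List.all_eq_true.1 tab_ok s (List.mem_range.2 hs)) t (List.mem_range.2 ht)
  simp only [Bool.and_eq_true, Nat.blt_eq] at h
  refine ⟨h.1.1, ((nTab.getD s []).getD t (0, 0)).2, ?_⟩
  have e := prodE_eq (fun x hx => (List.mem_append.1 hx).elim (nR_lt hs x) (nR_lt ht x))
    (fun x hx => (List.mem_append.1 hx).elim (nR_lt h.1.1 x) fun hx => rep_lt _ x (List.mem_append_left _ hx)) h.2
  rw [prodE_append, prodE_append, prodE_replicate] at e
  exact e

theorem nEl_conj {t : ℕ} (ht : t < 16) : nEl t * ey = ey ^ nA.getD t 0 * nEl t := by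
  have h := List.all_eq_true.1 norm_ok t (List.mem_range.2 ht)
  simp only [Bool.and_eq_true] at h
  have e := prodE_eq
    (fun x hx => (List.mem_append.1 hx).elim (nR_lt ht x) fun hx => (List.mem_singleton.1 hx) ▸ yz_lt.1)
    (fun x hx => (List.mem_append.1 hx).elim (fun hx => rep_lt _ x (List.mem_append_left _ hx)) (nR_lt ht x)) h.1.2
  rw [prodE_append, prodE_append, prodE_replicate] at e
  rw [show prodE [yI] = ey by simp [prodE, ey]] at e
  exact e

theorem nEl_z {t : ℕ} (ht : t < 16) (hc : Commute (nEl t) ey) :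
    ∃ a b, nEl t * ez = ez ^ b * ey ^ a * nEl t := by
  have h := List.all_eq_true.1 norm_ok t (List.mem_range.2 ht)
  simp only [Bool.and_eq_true] at h
  have hyl : ∀ x ∈ [yI], x < numEl := fun x hx => (List.mem_singleton.1 hx) ▸ yz_lt.1
  cases hA : Nat.beq (nA.getD t 0) 1 with
  | true =>
    simp only [hA, cond_true] at h
    have e := prodE_eq
      (fun x hx => (List.mem_append.1 hx).elim (nR_lt ht x) fun hx => (List.mem_singleton.1 hx) ▸ yz_lt.2)
      (fun x hx => (List.mem_append.1 hx).elim (fun hx => (List.mem_append.1 hx).elim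
        (fun hx => rep_lt _ x (List.mem_append_right _ hx)) fun hx => rep_lt _ x (List.mem_append_left _ hx))
        (nR_lt ht x)) h.2
    rw [prodE_append, prodE_append, prodE_append, prodE_replicate, prodE_replicate] at e
    rw [show prodE [zI] = ez by simp [prodE, ez]] at e
    exact ⟨_, _, e⟩
  | false =>
    exfalso
    simp only [hA, cond_false, Bool.not_eq_true'] at h
    have hsame : sameL (nR.getD t [] ++ [yI]) ([yI] ++ nR.getD t []) = true := by
      unfold sameL
      refine allF_iff.2 fun i hi => ?_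
      have e1 := appL_eq (l := nR.getD t [] ++ [yI]) (fun x hx => (List.mem_append.1 hx).elim (nR_lt ht x) (hyl x)) ⟨i, hi⟩
      have e2 := appL_eq (l := [yI] ++ nR.getD t []) (fun x hx => (List.mem_append.1 hx).elim (hyl x) (nR_lt ht x)) ⟨i, hi⟩
      rw [Nat.beq_eq, e1, e2, prodE_append, prodE_append, show prodE [yI] = ey by simp [prodE, ey],
        show prodE (nR.getD t []) = nEl t from rfl, hc.eq]
    rw [h.2] at hsame
    simp at hsame

/-- The element of order five inside the stabiliser of the first point. -/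
noncomputable def yJ : J := ⟨ey, ey_mem⟩

theorem order_yJ : orderOf yJ = 5 := by rw [← Subgroup.orderOf_coe, show ((yJ : J) : K) = ey from rfl, order_ey]

/-- Its group. -/
noncomputable abbrev YJ : Subgroup J := Subgroup.zpowers yJ

theorem card_YJ : Nat.card YJ = 5 := by rw [Nat.card_zpowers, order_yJ]

theorem mem_YJ {x : J} : x ∈ YJ ↔ ∃ i, x = yJ ^ i := by
  constructor
  · intro h
    obtain ⟨i, rfl⟩ := (mem_powers_iff_mem_zpowers.2 h : x ∈ Submonoid.powers yJ)
    exact ⟨i, rfl⟩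
  · rintro ⟨i, rfl⟩
    exact Subgroup.npow_mem_zpowers _ _

theorem mem_normalizer_YJ {x : J} : x ∈ Subgroup.normalizer (YJ : Set J) ↔ x * yJ * x⁻¹ ∈ YJ := by
  constructor
  · intro h
    exact (Subgroup.mem_normalizer_iff.1 h yJ).1 (Subgroup.mem_zpowers _)
  · intro h
    refine Subgroup.mem_normalizer_fintype fun z hz => ?_
    rw [SetLike.mem_coe] at hz ⊢
    obtain ⟨i, rfl⟩ := mem_YJ.1 hz
    rw [← conj_pow]
    exact Subgroup.pow_mem _ h i

/-- The points fixed by the element of order five. -/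
def zPt (i : ℕ) (p : Fin 1755) : Prop := loc (ez ^ i) 0 = p

theorem fix_iff (p : Fin 1755) : loc ey p = p ↔ ∃ i < 5, loc (ez ^ i) 0 = p := by
  have h := allF_iff.1 y_ok.2.2.2.2.2.2 p p.2
  rw [beq_iff_eq] at h
  have hz : ∀ i, appL (List.replicate i zI) 0 = (loc (ez ^ i) 0 : ℕ) := fun i => by
    rw [show (0 : ℕ) = ((0 : Fin 1755) : ℕ) from rfl, appL_eq (fun x hx => rep_lt i x (List.mem_append_right _ hx)),
      prodE_replicate]
    rfl
  have hy : Nat.beq (appL [yI] p) p = true ↔ loc ey p = p := by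
    rw [Nat.beq_eq, appL_eq (l := [yI]) (by simp [yz_lt.1]), show prodE [yI] = ey by simp [prodE, ey], Fin.val_inj]
  rw [← hy, h]
  simp only [List.any_eq_true, List.mem_range, Nat.beq_eq, hz, Fin.val_inj]

/-- The set of images of the fixed points, as a number. -/
noncomputable def conjMask (w : List ℕ) : ℕ :=
  (List.range 5).foldl (fun m i => m ||| 2 ^ appL w (appL (List.replicate i zI) 0)) 0

theorem conjMask_bit {w : List ℕ} (hw : ∀ x ∈ w, x < numEl) (p : ℕ) :
    (conjMask w).testBit p = true ↔ ∃ q : Fin 1755, loc ey q = q ∧ (loc (prodE w) q : ℕ) = p := by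
  have key : ∀ (f : ℕ → ℕ) (l : List ℕ) (m : ℕ),
      (l.foldl (fun m i => m ||| 2 ^ f i) m).testBit p = true ↔ m.testBit p = true ∨ ∃ i ∈ l, f i = p := by
    intro f l
    induction l with
    | nil => simp
    | cons a l ih =>
      intro m
      rw [List.foldl_cons, ih, Nat.testBit_lor, Bool.or_eq_true, Nat.testBit_two_pow, decide_eq_true_eq]
      simp only [List.mem_cons, exists_eq_or_imp]
      tauto
  rw [conjMask, key (fun i => appL w (appL (List.replicate i zI) 0))]
  simp only [Nat.zero_testBit, Bool.false_eq_true, false_or, List.mem_range]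
  have e : ∀ i, appL w (appL (List.replicate i zI) 0) = (loc (prodE w) (loc (ez ^ i) 0) : ℕ) := fun i => by
    rw [show (0 : ℕ) = ((0 : Fin 1755) : ℕ) from rfl, appL_eq (fun x hx => rep_lt i x (List.mem_append_right _ hx)),
      appL_eq hw, prodE_replicate]
    rfl
  constructor
  · rintro ⟨i, hi, rfl⟩
    exact ⟨_, (fix_iff _).2 ⟨i, hi, rfl⟩, (e i).symm⟩
  · rintro ⟨q, hq, rfl⟩
    obtain ⟨i, hi, rfl⟩ := (fix_iff q).1 hq
    exact ⟨i, hi, e i⟩

theorem conjW_facts {w : List ℕ} (hw : w ∈ conjW) : (∀ x ∈ w, x < numEl) ∧ prodE w ∈ J := by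
  have h := List.all_eq_true.1 jG_ok.2.2.1 w hw
  have h' : ∀ x ∈ w, x ∈ jG := fun x hx => by
    have := List.all_eq_true.1 h x hx
    simp only [List.any_eq_true, Nat.beq_eq] at this
    obtain ⟨g, hg, rfl⟩ := this
    exact hg
  exact ⟨fun x hx => (jG_mem x (h' x hx)).1, word_mem fun x hx => (jG_mem x (h' x hx)).2⟩

theorem card_normalizer_le : Nat.card (Subgroup.normalizer (YJ : Set J)) ≤ 80 := by
  haveI : Fact (Nat.Prime 5) := ⟨by norm_num⟩
  haveI : Finite J := inferInstance
  let S0 : Sylow 5 J := Sylow.ofCard YJ (by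
    rw [card_YJ, card_J, fact_five (a := 1) (m := 4096) (by norm_num) (by norm_num), pow_one])
  have hmod : Nat.card (Sylow 5 J) % 5 = 1 := card_sylow_modEq_one 5 J
  have hidx : Nat.card (Sylow 5 J) ∣ 4096 := by
    have h := S0.card_dvd_index
    have h2 := (S0 : Subgroup J).card_mul_index
    rw [show ((S0 : Subgroup J)) = YJ from Sylow.coe_ofCard _ _, card_YJ, card_J] at h2
    rw [show ((S0 : Subgroup J)) = YJ from Sylow.coe_ofCard _ _] at h
    rwa [show (4096 : ℕ) = YJ.index by omega]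
  have h17 : 17 ≤ Nat.card (Sylow 5 J) := by
    let f : Fin conjW.length → Sylow 5 J := fun n =>
      (⟨prodE conjW[n], (conjW_facts (List.getElem_mem n.2)).2⟩ : J) • S0
    have hf : Function.Injective f := by
      intro n m e
      have hn := conjW_facts (List.getElem_mem n.2)
      have hm := conjW_facts (List.getElem_mem m.2)
      have key : ∀ {u v : J}, u • S0 = v • S0 → ∀ q, loc ey q = q → ∃ r, loc ey r = r ∧
          loc (v : K) r = loc (u : K) q := by
        intro u v h q hq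
        have h1 : u * yJ * u⁻¹ ∈ ((v • S0 : Sylow 5 J) : Subgroup J) := by
          rw [← h, Sylow.coe_subgroup_smul, Subgroup.mem_pointwise_smul_iff_inv_smul_mem]
          show (MulAut.conj u)⁻¹ (u * yJ * u⁻¹) ∈ (S0 : Subgroup J)
          rw [MulAut.conj_inv_apply, Sylow.coe_ofCard]
          simp [mul_assoc]
        rw [Sylow.coe_subgroup_smul, Subgroup.mem_pointwise_smul_iff_inv_smul_mem] at h1
        change (MulAut.conj v)⁻¹ (u * yJ * u⁻¹) ∈ (S0 : Subgroup J) at h1
        rw [MulAut.conj_inv_apply, Sylow.coe_ofCard] at h1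
        obtain ⟨i, hi⟩ := mem_YJ.1 h1
        refine ⟨loc ((v : K)⁻¹ * u) q, ?_, ?_⟩
        · have h2 := congrArg (fun z : J => (z : K)) hi
          simp only [Subgroup.coe_mul, InvMemClass.coe_inv, SubmonoidClass.coe_pow] at h2
          change (v : K)⁻¹ * ((u : K) * ey * (u : K)⁻¹) * v = ey ^ i at h2
          by_cases hcyc : i % 5 = 0
          · exfalso
            rw [← Nat.div_add_mod i 5, hcyc, Nat.add_zero, pow_mul, ey_pow, one_pow] at h2
            apply ey_ne
            have h3 : ey = (u : K)⁻¹ * v * ((v : K)⁻¹ * ((u : K) * ey * (u : K)⁻¹) * v) * (v : K)⁻¹ * u := by group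
            rw [h2] at h3
            rw [h3]; group
          have hfix : loc (ey ^ i) (loc ((v : K)⁻¹ * u) q) = loc ((v : K)⁻¹ * u) q := by
            rw [← Equiv.Perm.mul_apply, ← map_mul, ← h2,
              show (v : K)⁻¹ * ((u : K) * ey * (u : K)⁻¹) * v * ((v : K)⁻¹ * u) = (v : K)⁻¹ * u * ey by group,
              map_mul, Equiv.Perm.mul_apply, hq]
          obtain ⟨j, hj⟩ : ∃ j, ey = (ey ^ i) ^ j := by
            have hcop : Nat.Coprime i (orderOf ey) := by
              rw [order_ey]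
              exact ((Nat.Prime.coprime_iff_not_dvd (by norm_num)).2 fun h => hcyc (Nat.mod_eq_zero_of_dvd h)).symm
            obtain ⟨j, hj⟩ := exists_pow_eq_self_of_coprime hcop
            exact ⟨j, hj.symm⟩
          rw [hj, map_pow]
          exact Equiv.Perm.pow_apply_eq_self_of_apply_eq_self hfix j
        · rw [← Equiv.Perm.mul_apply, ← map_mul, mul_inv_cancel_left]
      refine Fin.ext ((List.Nodup.getElem_inj_iff jG_ok.2.2.2.2 (hi := by simp) (hj := by simp)).1 ?_)
      simp only [List.getElem_map]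
      refine Nat.eq_of_testBit_eq fun p => Bool.eq_iff_iff.2 ?_
      show (conjMask conjW[n]).testBit p = true ↔ (conjMask conjW[m]).testBit p = true
      simp only [Fin.getElem_fin]
      rw [conjMask_bit hn.1, conjMask_bit hm.1]
      constructor
      · rintro ⟨q, hq, rfl⟩
        obtain ⟨r, hr, hr'⟩ := key e q hq
        exact ⟨r, hr, congrArg Fin.val hr'⟩
      · rintro ⟨q, hq, rfl⟩
        obtain ⟨r, hr, hr'⟩ := key e.symm q hq
        exact ⟨r, hr, congrArg Fin.val hr'⟩
    have := Nat.card_le_card_of_injective f hf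
    rwa [Nat.card_fin, jG_ok.2.2.2.1] at this
  have hval : 256 ≤ Nat.card (Sylow 5 J) := by
    obtain ⟨i, hi, e⟩ := (Nat.dvd_prime_pow Nat.prime_two).1 (show Nat.card (Sylow 5 J) ∣ 2 ^ 12 from hidx)
    rw [e] at hmod h17 ⊢
    interval_cases i
    all_goals (revert hmod h17; norm_num)
  rw [S0.card_eq_index_normalizer] at hval
  rw [show ((S0 : Sylow 5 J) : Set J) = (YJ : Set J) from congrArg SetLike.coe (Sylow.coe_ofCard _ _)] at hval
  have h := (Subgroup.normalizer (YJ : Set J)).card_mul_index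
  rw [card_J] at h
  nlinarith

theorem norm_cases {x : K} (hx : x ∈ J) {i : ℕ} (hn : x * ey * x⁻¹ = ey ^ i) :
    ∃ t < 16, ∃ k, x = nEl t * ey ^ k := by
  let N := Subgroup.normalizer (YJ : Set J)
  have hmem : ∀ m : Fin 80, (⟨nEl (m / 5) * ey ^ ((m : ℕ) % 5),
      mul_mem (nEl_mem (by omega)) (pow_mem ey_mem _)⟩ : J) ∈ N := by
    intro m
    have ht : (m : ℕ) / 5 < 16 := by omega
    refine mem_normalizer_YJ.2 (mem_YJ.2 ⟨nA.getD (m / 5) 0, Subtype.ext ?_⟩)
    show nEl (m / 5) * ey ^ ((m : ℕ) % 5) * ey * (nEl (m / 5) * ey ^ ((m : ℕ) % 5))⁻¹ = ey ^ nA.getD (m / 5) 0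
    rw [_root_.mul_inv_rev, mul_assoc (nEl _), ← pow_succ, pow_succ',
      show nEl ((m : ℕ) / 5) * (ey * ey ^ ((m : ℕ) % 5)) * ((ey ^ ((m : ℕ) % 5))⁻¹ * (nEl ((m : ℕ) / 5))⁻¹) =
        nEl ((m : ℕ) / 5) * ey * (nEl ((m : ℕ) / 5))⁻¹ by group, nEl_conj ht, mul_inv_cancel_right]
  let f : Fin 80 → N := fun m => ⟨_, hmem m⟩
  have hf : Function.Injective f := by
    intro m n e
    have e' : prodE (nR.getD ((m : ℕ) / 5) [] ++ List.replicate ((m : ℕ) % 5) yI) =
        prodE (nR.getD ((n : ℕ) / 5) [] ++ List.replicate ((n : ℕ) % 5) yI) := by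
      rw [prodE_append, prodE_append, prodE_replicate, prodE_replicate]
      exact congrArg (fun z : N => ((z : J) : K)) e
    have hlt : ∀ m : Fin 80, ∀ x ∈ nR.getD ((m : ℕ) / 5) [] ++ List.replicate ((m : ℕ) % 5) yI, x < numEl :=
      fun m x hx => (List.mem_append.1 hx).elim (nR_lt (by omega) x) fun hx => rep_lt _ x (List.mem_append_left _ hx)
    refine Fin.ext ((List.Nodup.getElem_inj_iff sep80_ok.1 (hi := by simp) (hj := by simp)).1 ?_)
    simp only [List.getElem_map, List.getElem_range]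
    refine List.map_congr_left fun q hq => ?_
    have hq' : q < 1755 := by simpa using List.all_eq_true.1 sep80_ok.2 q hq
    rw [appL_eq (hlt m) ⟨q, hq'⟩, appL_eq (hlt n) ⟨q, hq'⟩, e']
  have hbij : Function.Bijective f := by
    haveI : Fintype N := Fintype.ofFinite _
    refine (Fintype.bijective_iff_injective_and_card f).2 ⟨hf, ?_⟩
    refine le_antisymm (Fintype.card_le_of_injective f hf) ?_
    rw [Fintype.card_fin, ← Nat.card_eq_fintype_card]
    exact card_normalizer_le
  obtain ⟨m, hm⟩ := hbij.2 ⟨⟨x, hx⟩, mem_normalizer_YJ.2 (mem_YJ.2 ⟨i, Subtype.ext hn⟩)⟩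
  exact ⟨(m : ℕ) / 5, by omega, (m : ℕ) % 5, (congrArg (fun z : N => ((z : J) : K)) hm).symm⟩

/-- The group generated by the two commuting elements of order five. -/
noncomputable def P0 : Subgroup K := Subgroup.zpowers ey ⊔ Subgroup.zpowers ez

theorem cent_normalizes {g : K} (hg : Commute g ey) : g ∈ Subgroup.normalizer (P0 : Set K) := by
  have hyP : ey ∈ P0 := (le_sup_left : Subgroup.zpowers ey ≤ P0) (Subgroup.mem_zpowers _)
  have hzP : ez ∈ P0 := (le_sup_right : Subgroup.zpowers ez ≤ P0) (Subgroup.mem_zpowers _)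
  have hle : ∀ x ∈ P0, x ∈ Subgroup.normalizer (P0 : Set K) := fun x hx => Subgroup.le_normalizer hx
  have hfix : loc ey (loc g 0) = loc g 0 := by
    rw [← Equiv.Perm.mul_apply, ← map_mul, ← hg.eq, map_mul, Equiv.Perm.mul_apply, mem_J.1 ey_mem]
  obtain ⟨i, hi, hgi⟩ := (fix_iff _).1 hfix
  let h := (ez ^ i)⁻¹ * g
  have hJ : h ∈ J := by
    show loc ((ez ^ i)⁻¹ * g) 0 = 0
    rw [map_mul, map_inv, Equiv.Perm.mul_apply, ← hgi, Equiv.Perm.inv_eq_iff_eq]
  have hcy : Commute h ey := ((ey_comm.symm.pow_left i).inv_left).mul_left hg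
  obtain ⟨t, ht, k, hk⟩ := norm_cases hJ (i := 1) (by rw [pow_one, hcy.eq, mul_inv_cancel_right])
  have hct : Commute (nEl t) ey := by
    have : nEl t = h * (ey ^ k)⁻¹ := by rw [hk, mul_inv_cancel_right]
    rw [this]
    exact hcy.mul_left ((Commute.refl ey).pow_left k).inv_left
  have hn : nEl t ∈ Subgroup.normalizer (P0 : Set K) := by
    obtain ⟨a, b, hab⟩ := nEl_z ht hct
    refine Subgroup.mem_normalizer_fintype fun x hx => ?_
    rw [SetLike.mem_coe] at hx ⊢
    have hsub : P0 ≤ P0.comap (MulAut.conj (nEl t)).toMonoidHom := by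
      refine sup_le ?_ ?_ <;> rw [Subgroup.zpowers_le, Subgroup.mem_comap]
      · show nEl t * ey * (nEl t)⁻¹ ∈ P0
        rw [hct.eq, mul_inv_cancel_right]
        exact hyP
      · show nEl t * ez * (nEl t)⁻¹ ∈ P0
        rw [hab, mul_inv_cancel_right]
        exact mul_mem (pow_mem hzP _) (pow_mem hyP _)
    exact hsub hx
  have e : g = ez ^ i * (nEl t * ey ^ k) := by rw [← hk, mul_inv_cancel_left]
  rw [e]
  exact mul_mem (hle _ (pow_mem hzP _)) (mul_mem hn (hle _ (pow_mem hyP _)))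

theorem ez_mem {M : Subgroup K} (hM : Nat.card M = 15600) (hy : ey ∈ M) : ez ∈ M := by
  haveI : Fact (Nat.Prime 5) := ⟨by norm_num⟩
  have hZy : IsPGroup 5 (Subgroup.zpowers (⟨ey, hy⟩ : M)) :=
    IsPGroup.of_card (n := 1) (by rw [Nat.card_zpowers, Subgroup.orderOf_mk, order_ey, pow_one])
  obtain ⟨S, hS⟩ := hZy.exists_le_sylow
  let Pm : Subgroup K := (S : Subgroup M).map M.subtype
  have hPm : Nat.card Pm = 5 ^ 2 := by
    rw [← Nat.card_congr ((S : Subgroup M).equivMapOfInjective _ M.subtype_injective).toEquiv, S.card_eq_multiplicity,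
      hM, fact_five (a := 2) (m := 624) (by norm_num) (by norm_num)]
  have hyP : ey ∈ Pm := ⟨⟨ey, hy⟩, hS (Subgroup.mem_zpowers _), rfl⟩
  have hnorm : Pm ≤ Subgroup.normalizer (P0 : Set K) := fun g hg =>
    cent_normalizes (congrArg Subtype.val (IsPGroup.commutative_of_card_eq_prime_sq hPm ⟨g, hg⟩ ⟨ey, hyP⟩))
  have hcyc : ∀ {e : K}, e ^ 5 = 1 → IsPGroup 5 (Subgroup.zpowers e) := fun {e} he ⟨x, hx⟩ => by
    refine ⟨1, Subtype.ext ?_⟩
    obtain ⟨z, rfl⟩ := Subgroup.mem_zpowers_iff.1 hx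
    show (e ^ z) ^ 5 ^ 1 = 1
    rw [pow_one, ← zpow_natCast, ← zpow_mul, mul_comm, zpow_mul, zpow_natCast, he, one_zpow]
  have hP0 : IsPGroup 5 P0 := by
    rw [P0, sup_comm]
    refine (hcyc ez_pow).to_sup_of_normal_right' (hcyc ey_pow) ?_
    rw [Subgroup.zpowers_le]
    refine Subgroup.mem_normalizer_fintype fun y hy => ?_
    rw [SetLike.mem_coe] at hy ⊢
    obtain ⟨z, rfl⟩ := Subgroup.mem_zpowers_iff.1 hy
    rw [((ey_comm.zpow_left z).symm).eq, mul_inv_cancel_right]
    exact Subgroup.mem_zpowers_iff.2 ⟨z, rfl⟩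
  have hsup : IsPGroup 5 ↥(Pm ⊔ P0) := (IsPGroup.of_card hPm).to_sup_of_normal_right' hP0 hnorm
  obtain ⟨n, hn⟩ := hsup.exists_card_eq
  have hdvd : 5 ^ n ∣ 35942400 := by rw [← hn, ← card_K]; exact Subgroup.card_subgroup_dvd_card _
  have hn2 : n ≤ 2 := by
    by_contra hgt
    have := dvd_trans (pow_dvd_pow 5 (show 3 ≤ n by omega)) hdvd
    norm_num at this
  have heq : Pm = Pm ⊔ P0 := Subgroup.eq_of_le_of_card_ge le_sup_left (by
    rw [hn, hPm]; exact Nat.pow_le_pow_right (by norm_num) hn2)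
  have : ez ∈ Pm := heq ▸ (le_sup_right : P0 ≤ Pm ⊔ P0) ((le_sup_right : Subgroup.zpowers ez ≤ P0) (Subgroup.mem_zpowers _))
  obtain ⟨m, -, hm⟩ := Subgroup.mem_map.1 this
  exact hm ▸ m.2

theorem closed_triple {T : Finset ℕ} (hT : ∀ t ∈ T, t < 16) (h0 : 0 ∈ T) (hcard : T.card = 4)
    (hcl : ∀ s ∈ T, ∀ t ∈ T, ((nTab.getD s []).getD t (0, 0)).1 ∈ T) :
    ∃ X < 7, ∀ t ∈ (xL.getD X ([], [])).2, 0 < t ∧ t < 16 ∧ t ∈ T := by
  obtain ⟨a, b, c, hab, hbc, hT'⟩ : ∃ a b c, a < b ∧ b < c ∧ T.erase 0 = {a, b, c} := by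
    obtain ⟨x, y, z, hxy, hxz, hyz, h⟩ := Finset.card_eq_three.1
      (show (T.erase 0).card = 3 by rw [Finset.card_erase_of_mem h0, hcard])
    rcases lt_or_gt_of_ne hxy with h1 | h1 <;> rcases lt_or_gt_of_ne hxz with h2 | h2 <;>
      rcases lt_or_gt_of_ne hyz with h3 | h3
    · exact ⟨x, y, z, h1, h3, h⟩
    · exact ⟨x, z, y, h2, h3, by rw [h]; ext; simp; tauto⟩
    · omega
    · exact ⟨z, x, y, h2, h1, by rw [h]; ext; simp; tauto⟩
    · exact ⟨y, x, z, h1, h2, by rw [h]; ext; simp; tauto⟩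
    · omega
    · exact ⟨y, z, x, h3, h2, by rw [h]; ext; simp; tauto⟩
    · exact ⟨z, y, x, h3, h1, by rw [h]; ext; simp; tauto⟩
  have hmem : ∀ t, t ∈ T ↔ t = 0 ∨ t ∈ [a, b, c] := by
    intro t
    rw [← Finset.insert_erase h0, hT']
    simp
  have hpos : 0 < a := Nat.pos_of_ne_zero fun e => by
    have : a ∈ T.erase 0 := by rw [hT']; simp
    rw [e] at this
    simp at this
  have hlt : ∀ t ∈ [a, b, c], t < 16 := fun t ht => hT t ((hmem t).2 (Or.inr ht))
  have h := List.all_eq_true.1 (List.all_eq_true.1 (List.all_eq_true.1 subsets_ok.1 a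
    (List.mem_range.2 (hlt a (by simp)))) b (List.mem_range.2 (hlt b (by simp)))) c
    (List.mem_range.2 (hlt c (by simp)))
  have hclosed : closedK [a, b, c] = true := by
    simp only [closedK, List.all_eq_true, List.any_eq_true, Nat.beq_eq]
    intro p hp q hq
    rw [List.mem_cons] at hp hq
    refine ⟨_, ?_, rfl⟩
    rw [List.mem_cons]
    exact (hmem _).1 (hcl p ((hmem p).2 hp) q ((hmem q).2 hq))
  simp only [hclosed, Bool.and_eq_true, Nat.blt_eq, Bool.or_eq_true, Bool.not_eq_true', Bool.and_eq_false_iff,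
    List.any_eq_true, List.mem_range, beq_iff_eq] at h
  rcases h with h | ⟨X, hX, hXe⟩
  · exfalso
    have e1 : Nat.blt 0 a = true := by rw [Nat.blt_eq]; exact hpos
    have e2 : Nat.blt a b = true := by rw [Nat.blt_eq]; exact hab
    have e3 : Nat.blt b c = true := by rw [Nat.blt_eq]; exact hbc
    simp [e1, e2, e3] at h
  · refine ⟨X, subsets_ok.2.1 ▸ hX, fun t ht => ?_⟩
    rw [List.getD_eq_getElem _ _ hX] at ht hXe
    have h' := List.all_eq_true.1 (List.all_eq_true.1 subsets_ok.2.2 _ (List.getElem_mem hX)) t ht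
    simp only [Bool.and_eq_true, Nat.blt_eq, List.any_eq_true, Nat.beq_eq] at h'
    obtain ⟨⟨h1, h2⟩, u, hu, rfl⟩ := h'
    exact ⟨h1, h2, (hmem _).2 (Or.inr (hXe ▸ hu))⟩

/-- The result for a group containing the standard element of order five. -/
theorem sub100_core {M : Subgroup K} (hM : Nat.card M = 15600) (hX : Nat.card ↥(M ⊓ J) = 20) (hy : ey ∈ M) :
    ∃ X < 7, ∀ g ∈ qGens X, el g ∈ M := by
  haveI : Fact (Nat.Prime 5) := ⟨by norm_num⟩
  let X0 := M ⊓ J
  have hyX : ey ∈ X0 := ⟨hy, ey_mem⟩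
  have hnorm : ∀ x ∈ X0, ∃ i : ℕ, x * ey * x⁻¹ = ey ^ i := by
    intro x hx
    let y0 : X0 := ⟨ey, hyX⟩
    let S : Sylow 5 X0 := Sylow.ofCard (Subgroup.zpowers y0) (by
      rw [Nat.card_zpowers, Subgroup.orderOf_mk, order_ey, hX, fact_five (a := 1) (m := 4) (by norm_num) (by norm_num),
        pow_one])
    have h1 : Nat.card (Sylow 5 X0) % 5 = 1 := card_sylow_modEq_one 5 X0
    have h2 : Nat.card (Sylow 5 X0) ∣ 4 := by
      have h := S.card_dvd_index
      have h' := (Subgroup.zpowers y0).card_mul_index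
      rw [Nat.card_zpowers, Subgroup.orderOf_mk, order_ey, hX] at h'
      rw [show ((S : Subgroup X0)) = Subgroup.zpowers y0 from Sylow.coe_ofCard _ _] at h
      rwa [show (4 : ℕ) = (Subgroup.zpowers y0).index by omega]
    have h3 : Nat.card (Sylow 5 X0) = 1 := by
      have := Nat.le_of_dvd (by norm_num) h2
      omega
    haveI : Subsingleton (Sylow 5 X0) := (Nat.card_eq_one_iff_unique.1 h3).1
    have hN : (Subgroup.zpowers y0).Normal := by
      have := Sylow.normal_of_subsingleton S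
      rwa [show ((S : Subgroup X0)) = Subgroup.zpowers y0 from Sylow.coe_ofCard _ _] at this
    have := hN.conj_mem y0 (Subgroup.mem_zpowers _) ⟨x, hx⟩
    obtain ⟨i, hi⟩ := (mem_powers_iff_mem_zpowers.2 this : _ ∈ Submonoid.powers y0)
    exact ⟨i, (congrArg Subtype.val hi).symm⟩
  let T : Finset ℕ := (Finset.range 16).filter fun t => nEl t ∈ X0
  have hT : ∀ t, t ∈ T ↔ t < 16 ∧ nEl t ∈ X0 := fun t => by simp [T]
  have hcard : T.card = 4 := by
    let f : {t // t ∈ T} × Fin 5 → X0 := fun p =>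
      ⟨nEl p.1.1 * ey ^ (p.2 : ℕ), mul_mem ((hT _).1 p.1.2).2 (pow_mem hyX _)⟩
    have hf : Function.Bijective f := by
      constructor
      · rintro ⟨⟨s, hs⟩, a⟩ ⟨⟨t, ht⟩, b⟩ e
        have e' : nEl s * ey ^ (a : ℕ) = nEl t * ey ^ (b : ℕ) := congrArg Subtype.val e
        have hs' := ((hT s).1 hs).1
        have ht' := ((hT t).1 ht).1
        have hlt : ∀ {s : ℕ} {a : Fin 5}, s < 16 → ∀ x ∈ nR.getD s [] ++ List.replicate (a : ℕ) yI, x < numEl :=
          fun {s a} hs x hx => (List.mem_append.1 hx).elim (nR_lt hs x) fun hx => rep_lt _ x (List.mem_append_left _ hx)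
        have e2 : prodE (nR.getD s [] ++ List.replicate (a : ℕ) yI) = prodE (nR.getD t [] ++ List.replicate (b : ℕ) yI) := by
          rw [prodE_append, prodE_append, prodE_replicate, prodE_replicate]
          exact e'
        have hidx : 5 * s + (a : ℕ) = 5 * t + (b : ℕ) := by
          refine (List.Nodup.getElem_inj_iff sep80_ok.1 (hi := by simp; omega) (hj := by simp; omega)).1 ?_
          simp only [List.getElem_map, List.getElem_range]
          refine List.map_congr_left fun q hq => ?_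
          have hq' : q < 1755 := by simpa using List.all_eq_true.1 sep80_ok.2 q hq
          rw [show (5 * s + (a : ℕ)) / 5 = s by omega, show (5 * s + (a : ℕ)) % 5 = a by omega,
            show (5 * t + (b : ℕ)) / 5 = t by omega, show (5 * t + (b : ℕ)) % 5 = b by omega,
            appL_eq (hlt hs') ⟨q, hq'⟩, appL_eq (hlt ht') ⟨q, hq'⟩, e2]
        have := a.2; have := b.2
        simp only [Prod.mk.injEq, Subtype.mk.injEq]
        exact ⟨by omega, Fin.ext (by omega)⟩
      · rintro ⟨x, hx⟩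
        obtain ⟨i, hi⟩ := hnorm x hx
        obtain ⟨t, ht, k, rfl⟩ := norm_cases hx.2 hi
        have htT : t ∈ T := (hT t).2 ⟨ht, by
          have := mul_mem hx (inv_mem (pow_mem hyX k))
          rwa [mul_inv_cancel_right] at this⟩
        refine ⟨(⟨t, htT⟩, ⟨k % 5, Nat.mod_lt _ (by norm_num)⟩), Subtype.ext ?_⟩
        show nEl t * ey ^ (k % 5) = nEl t * ey ^ k
        rw [← order_ey, pow_mod_orderOf]
    have := Nat.card_congr (Equiv.ofBijective f hf)
    rw [Nat.card_prod, Nat.card_fin, hX, Nat.card_eq_fintype_card, Fintype.card_coe] at this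
    omega
  obtain ⟨X, hX7, hgen⟩ := closed_triple (fun t ht => ((hT t).1 ht).1) ((hT 0).2 ⟨by norm_num, by
    rw [nEl_zero]; exact one_mem _⟩) hcard fun s hs t ht => by
      obtain ⟨h1, k, hk⟩ := nEl_mul ((hT s).1 hs).1 ((hT t).1 ht).1
      refine (hT _).2 ⟨h1, ?_⟩
      have := mul_mem (mul_mem ((hT s).1 hs).2 ((hT t).1 ht).2) (inv_mem (pow_mem hyX k))
      rwa [hk, mul_inv_cancel_right] at this
  refine ⟨X, hX7, fun g hg => ?_⟩
  simp only [qGens, List.mem_cons, List.mem_map] at hg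
  rcases hg with rfl | rfl | ⟨t, ht, rfl⟩
  · exact hy
  · exact ez_mem hM hy
  · obtain ⟨h1, h2, h3⟩ := hgen t ht
    rw [nEl_single h1 h2]
    exact ((hT t).1 h3).2.1

/-- A subgroup of order 15600 meeting the point stabiliser in twenty elements contains a conjugate of one of
the seven groups. -/
theorem exists_sub100 (M : Subgroup K) (hM : Nat.card M = 15600) (hX : Nat.card ↥(M ⊓ J) = 20) :
    ∃ j ∈ J, ∃ X < 7, ∀ g ∈ qGens X, j⁻¹ * el g * j ∈ M := by
  haveI : Fact (Nat.Prime 5) := ⟨by norm_num⟩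
  obtain ⟨w, hw⟩ := exists_prime_orderOf_dvd_card' (G := ↥(M ⊓ J)) 5 (by rw [hX]; norm_num)
  let wJ : J := ⟨w, w.2.2⟩
  have hwo : orderOf wJ = 5 := by rw [Subgroup.orderOf_mk, Subgroup.orderOf_coe]; exact hw
  have hf : (Nat.card J).factorization 5 = 1 := by
    rw [card_J]; exact fact_five (m := 4096) (by norm_num) (by norm_num)
  let S1 : Sylow 5 J := Sylow.ofCard (Subgroup.zpowers wJ) (by rw [Nat.card_zpowers, hwo, hf, pow_one])
  let S2 : Sylow 5 J := Sylow.ofCard YJ (by rw [card_YJ, hf, pow_one])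
  obtain ⟨u, hu⟩ := MulAction.exists_smul_eq J S1 S2
  have hyu : yJ ∈ ((u • S1 : Sylow 5 J) : Subgroup J) := by
    rw [hu, Sylow.coe_ofCard]; exact Subgroup.mem_zpowers _
  rw [Sylow.coe_subgroup_smul, Subgroup.mem_pointwise_smul_iff_inv_smul_mem] at hyu
  change (MulAut.conj u)⁻¹ yJ ∈ (S1 : Subgroup J) at hyu
  rw [MulAut.conj_inv_apply, Sylow.coe_ofCard] at hyu
  obtain ⟨z, hz⟩ := Subgroup.mem_zpowers_iff.1 hyu
  have hey : (u : K)⁻¹ * ey * u ∈ M := by
    have h := congrArg (fun t : J => (t : K)) hz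
    simp only [SubgroupClass.coe_zpow, Subgroup.coe_mul, InvMemClass.coe_inv] at h
    rw [show (u : K)⁻¹ * ey * u = (w : K) ^ z from h.symm]
    exact zpow_mem (show (w : K) ∈ M from w.2.1) z
  let σ := (MulAut.conj (u : K)).toMonoidHom
  have hσ : Function.Injective σ := (MulAut.conj (u : K)).injective
  have hmem : ∀ x : K, x ∈ M.map σ ↔ (u : K)⁻¹ * x * u ∈ M := by
    intro x
    rw [Subgroup.mem_map]
    constructor
    · rintro ⟨m, hm, rfl⟩
      show (u : K)⁻¹ * ((u : K) * m * (u : K)⁻¹) * u ∈ M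
      simpa [mul_assoc] using hm
    · exact fun h => ⟨_, h, show (u : K) * ((u : K)⁻¹ * x * u) * (u : K)⁻¹ = x by group⟩
  have hJ : M.map σ ⊓ J = (M ⊓ J).map σ := by
    rw [Subgroup.map_inf _ _ _ hσ]
    congr 1
    refine Subgroup.ext fun x => ⟨fun hx => ⟨(u : K)⁻¹ * x * u, mul_mem (mul_mem (inv_mem u.2) hx) u.2,
      show (u : K) * ((u : K)⁻¹ * x * u) * (u : K)⁻¹ = x by group⟩, ?_⟩
    rintro ⟨m, hm, rfl⟩
    exact mul_mem (mul_mem u.2 hm) (inv_mem u.2)
  obtain ⟨X, hX7, hg⟩ := sub100_core (M := M.map σ)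
    (by rw [← Nat.card_congr (M.equivMapOfInjective σ hσ).toEquiv, hM])
    (by rw [hJ, ← Nat.card_congr ((M ⊓ J).equivMapOfInjective σ hσ).toEquiv, hX]) ((hmem _).2 hey)
  exact ⟨u, u.2, X, hX7, fun g hg' => (hmem _).1 (hg g hg')⟩

end CfsgLib.Sporadic.RuRank
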