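import Cfsg.Agent.Lib.Sporadic.RuRank.Labelling
import Cfsg.Agent.Lib.Sporadic.RuRank.Sub100
import Cfsg.Agent.Lib.Sporadic.RuRank.Search
import Cfsg.Agent.Lib.Sporadic.RuRank.Far

/-!
A distant point may be moved so that its common neighbours with the base point are those of the first distant
line of the model.
-/

set_option autoImplicit false
set_option maxRecDepth 100000

open scoped Classical

namespace CfsgLib.Sporadic.RuRank

open CfsgLib.Sporadic.OutCert

attribute [local irreducible] lk pkF allF compK oneK steps mask0 popW m4 comM farMask xL nR qM qR qT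

variable {Ω : Type*} [Fintype Ω] [DecidableEq Ω] {G : Subgroup (Equiv.Perm Ω)} {a b c : Ω}
  {R : Ω → Ω → Prop}

theorem card_iff {α : Type*} [Fintype α] {p q : α → Prop} {hp : DecidablePred p} {hq : DecidablePred q}
    (h : ∀ x, p x ↔ q x) : (@Finset.filter α p hp Finset.univ).card = (@Finset.filter α q hq Finset.univ).card :=
  congrArg Finset.card (Finset.filter_congr fun x _ => h x)

theorem nbr_card {x : Ω} (E : {z // R x z} ≃ Fin 1755) (Φ : Ω → Prop) {hd : DecidablePred fun z => R x z ∧ Φ z} :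
    (@Finset.filter Ω (fun z => R x z ∧ Φ z) hd Finset.univ).card =
      (Finset.univ.filter fun i => Φ (E.symm i : Ω)).card := by
  refine (Finset.card_bij (fun i _ => (E.symm i : Ω)) (fun i hi => ?_) (fun i _ j _ e => ?_) (fun z hz => ?_)).symm
  · simp only [Finset.mem_filter, Finset.mem_univ, true_and] at hi ⊢
    exact ⟨(E.symm i).2, hi⟩
  · exact E.symm.injective (Subtype.ext e)
  · simp only [Finset.mem_filter, Finset.mem_univ, true_and] at hz
    refine ⟨E ⟨z, hz.1⟩, ?_, by rw [Equiv.symm_apply_apply]⟩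
    simp only [Finset.mem_filter, Finset.mem_univ, true_and, Equiv.symm_apply_apply]
    exact hz.2

theorem com_nbr {x : Ω} (E : {z // R x z} ≃ Fin 1755) (hE : ∀ y z : {z // R x z}, R (y : Ω) (z : Ω) ↔ Alj (E y) (E z))
    (y w : {z // R x z}) :
    com (E y) (E w) = (Finset.univ.filter fun z => R x z ∧ R (y : Ω) z ∧ R (w : Ω) z).card := by
  rw [nbr_card E, com]
  refine card_iff (fun i => ?_)
  rw [hE y, hE w, Equiv.apply_symm_apply]

/-- The neighbourhood of a common neighbour, labelled with `a` and `c` opposite. -/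
theorem transport [MulAction.IsPretransitive G Ω] (d : GraphData G a b c R) (L : NearLabel G a R)
    (p : Fin 1755) (hp : R c (L.e.symm p : Ω)) :
    ∃ (E : {z // R (L.e.symm p : Ω) z} ≃ Fin 1755), (∀ y z : {z // R (L.e.symm p : Ω) z}, R (y : Ω) (z : Ω) ↔ Alj (E y) (E z)) ∧
      (∃ h, E ⟨a, h⟩ = 0) ∧ (∃ h, E ⟨c, h⟩ = away) ∧
      Nat.card {h : G // h • a = a ∧ h • c = c ∧ h • (L.e.symm p : Ω) = L.e.symm p} = 20 := by
  obtain ⟨hadj, -⟩ := L.adjacency d
  obtain ⟨g, hg⟩ := MulAction.exists_smul_eq G a (L.e.symm p : Ω)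
  have hpull : ∀ {x : Ω}, R (L.e.symm p : Ω) x → R a (g⁻¹ • x) := fun {x} hx => by
    rw [← d.inv g, hg, smul_inv_smul]; exact hx
  have hpa : R (L.e.symm p : Ω) a := d.symm (L.e.symm p).2
  have hpc : R (L.e.symm p : Ω) c := d.symm hp
  let ta : {y // R a y} := ⟨g⁻¹ • a, hpull hpa⟩
  let tc : {y // R a y} := ⟨g⁻¹ • c, hpull hpc⟩
  have hna : ¬ Alj (L.e ta) (L.e tc) := by
    rw [← hadj, d.inv]; exact d.nac
  have hne : L.e ta ≠ L.e tc := fun e =>
    d.ac (MulAction.injective _ (congrArg Subtype.val (L.e.injective e)))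
  obtain ⟨u, hu0, hu1⟩ := apart_base hna hne
  let Eg : {z // R (L.e.symm p : Ω) z} ≃ {y // R a y} :=
    { toFun := fun z => ⟨g⁻¹ • (z : Ω), hpull z.2⟩
      invFun := fun y => ⟨g • (y : Ω), by rw [← hg, d.inv]; exact y.2⟩
      left_inv := fun z => Subtype.ext (smul_inv_smul g _)
      right_inv := fun y => Subtype.ext (inv_smul_smul g _) }
  refine ⟨(Eg.trans L.e).trans (loc u)⁻¹, fun y z => ?_, ⟨hpa, ?_⟩, ⟨hpc, ?_⟩, ?_⟩
  · show R (y : Ω) (z : Ω) ↔ Alj ((loc u)⁻¹ (L.e (Eg y))) ((loc u)⁻¹ (L.e (Eg z)))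
    rw [← map_inv, loc_alj, ← hadj]
    exact (d.inv g⁻¹ _ _).symm
  · show (loc u)⁻¹ (L.e ta) = 0
    rw [← hu0]
    exact (loc u).symm_apply_apply 0
  · show (loc u)⁻¹ (L.e tc) = away
    rw [← hu1]
    exact (loc u).symm_apply_apply away
  · rw [← card_away_stab]
    have hfix : ∀ (k : MulAction.stabilizer G a) (y : {y // R a y}),
        k • (y : Ω) = y ↔ loc (L.θ k) (L.e y) = L.e y := by
      intro k y
      have h := L.symm_smul d k (L.e y)
      rw [Equiv.symm_apply_apply] at h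
      rw [← h]
      exact ⟨fun e => by rw [← L.e.apply_symm_apply (loc (L.θ k) (L.e y))]; exact congrArg L.e (Subtype.ext e),
        fun e => by rw [e, Equiv.symm_apply_apply]⟩
    have hconj : ∀ (h : G) (x : Ω), (g⁻¹ * h * g) • (g⁻¹ • x) = g⁻¹ • x ↔ h • x = x := fun h x => by
      rw [mul_smul, mul_smul, smul_inv_smul, smul_left_cancel_iff]
    have hga : g⁻¹ • (L.e.symm p : Ω) = a := by rw [← hg, inv_smul_smul]
    let f : {h : G // h • a = a ∧ h • c = c ∧ h • (L.e.symm p : Ω) = L.e.symm p} →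
        {v : K // v ∈ J ∧ loc v away = away} := fun h =>
      ⟨u⁻¹ * L.θ ⟨g⁻¹ * h.1 * g, by
          have := (hconj h.1 _).2 h.2.2.2
          rw [hga] at this
          exact this⟩ * u, by
        constructor
        · show loc _ 0 = 0
          rw [map_mul, map_mul, map_inv, Equiv.Perm.mul_apply, Equiv.Perm.mul_apply, hu0,
            (hfix _ ta).1 ((hconj h.1 a).2 h.2.1), Equiv.Perm.inv_eq_iff_eq, hu0]
        · show loc _ away = away
          rw [map_mul, map_mul, map_inv, Equiv.Perm.mul_apply, Equiv.Perm.mul_apply, hu1,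
            (hfix _ tc).1 ((hconj h.1 c).2 h.2.2.1), Equiv.Perm.inv_eq_iff_eq, hu1]⟩
    refine Nat.card_congr (Equiv.ofBijective f ⟨fun h h' e => ?_, fun v => ?_⟩)
    · have e' := mul_left_cancel (mul_right_cancel (congrArg Subtype.val e))
      have e2 := congrArg Subtype.val (L.θ.injective e')
      exact Subtype.ext (mul_left_cancel (mul_right_cancel e2))
    · obtain ⟨k, hk⟩ := L.θ.surjective (u * v.1 * u⁻¹)
      have h0 : k • (ta : Ω) = ta := (hfix k ta).2 (by
        rw [hk, map_mul, map_mul, map_inv, Equiv.Perm.mul_apply, Equiv.Perm.mul_apply,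
          Equiv.Perm.inv_eq_iff_eq.2 hu0.symm, mem_J.1 v.2.1, hu0])
      have h1 : k • (tc : Ω) = tc := (hfix k tc).2 (by
        rw [hk, map_mul, map_mul, map_inv, Equiv.Perm.mul_apply, Equiv.Perm.mul_apply,
          Equiv.Perm.inv_eq_iff_eq.2 hu1.symm, v.2.2, hu1])
      have hmove : ∀ x : Ω, (g * (k : G) * g⁻¹) • x = x ↔ (k : G) • (g⁻¹ • x) = g⁻¹ • x := fun x => by
        rw [mul_smul, mul_smul]
        exact smul_eq_iff_eq_inv_smul g
      refine ⟨⟨g * (k : G) * g⁻¹, (hmove a).2 h0, (hmove c).2 h1, (hmove _).2 (by rw [hga]; exact k.2)⟩,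
        Subtype.ext ?_⟩
      show u⁻¹ * L.θ ⟨g⁻¹ * (g * (k : G) * g⁻¹) * g, _⟩ * u = v.1
      refine (congrArg (fun z => u⁻¹ * L.θ z * u) (Subtype.ext ?_ : _ = k)).trans ?_
      · show g⁻¹ * (g * (k : G) * g⁻¹) * g = k
        group
      rw [hk]
      group

theorem counts [MulAction.IsPretransitive G Ω] (d : GraphData G a b c R) (L : NearLabel G a R) :
    SetOK (fun i => R c (L.e.symm i : Ω)) ∧ ∀ p q, R c (L.e.symm p : Ω) → R c (L.e.symm q : Ω) → Alj p q →
      (Finset.univ.filter fun r => R c (L.e.symm r : Ω) ∧ Alj p r ∧ Alj q r).card ≠ 130 := by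
  obtain ⟨hadj, hμ⟩ := L.adjacency d
  have hadj' : ∀ i j, Alj i j ↔ R (L.e.symm i : Ω) (L.e.symm j : Ω) := fun i j => by
    rw [hadj, Equiv.apply_symm_apply, Equiv.apply_symm_apply]
  refine ⟨⟨?_, fun p hp k hk => ?_⟩, fun p q hp hq hpq => ?_⟩
  · rw [← hμ]
    exact (nbr_card L.e fun z => R c z).symm
  · obtain ⟨E, hE, ⟨ha, hEa⟩, ⟨hc', hEc⟩, -⟩ := transport d L p hp
    have hcom : ∀ q, R (L.e.symm p : Ω) (L.e.symm q : Ω) → ∀ hq : R (L.e.symm p : Ω) (L.e.symm q : Ω),
        com p q = com 0 (E ⟨_, hq⟩) := by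
      intro q _ hq
      have h1 := com_nbr L.e (hadj) (L.e.symm p) (L.e.symm q)
      rw [Equiv.apply_symm_apply, Equiv.apply_symm_apply] at h1
      rw [h1, ← hEa, com_nbr E hE]
      refine card_iff (fun z => ?_)
      exact ⟨fun h => ⟨h.2.1, h.1, h.2.2⟩, fun h => ⟨h.2.1, h.1, h.2.2⟩⟩
    refine Eq.trans ?_ (Nat.eq_of_beq_eq_true (List.all_eq_true.1 comM_ok.2.1 k (List.mem_range.2 hk)))
    refine Eq.trans ?_ (pop_card (x := Nat.land (mask0At k) comM) (fun i hi => ?_)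
      (fun i : Fin 1755 => Cls k 0 i ∧ Alj away i) fun i => ?_)
    swap
    · rw [show Nat.land (mask0At k) comM = mask0At k &&& comM from rfl, Nat.testBit_land, Bool.and_eq_true] at hi
      exact mask0_lt hk i hi.1
    swap
    · rw [show Nat.land (mask0At k) comM = mask0At k &&& comM from rfl, Nat.testBit_land, Bool.and_eq_true,
        mask0_iff hk, beq_iff_eq.1 (allF_iff.1 comM_ok.1 i i.2), Bool.and_eq_true, ← away_val]
      exact ⟨fun h => ⟨h.1, h.1.1, h.2⟩, fun h => ⟨h.1, h.2.2⟩⟩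
    refine Finset.card_bij (fun q hq => E ⟨(L.e.symm q : Ω), (hadj' p q).1 (Finset.mem_filter.1 hq).2.2.1⟩)
      (fun q hq => ?_) (fun q _ q' _ e => ?_) (fun i hi => ?_)
    · have hq' := (Finset.mem_filter.1 hq).2
      simp only [Finset.mem_filter, Finset.mem_univ, true_and]
      have hq2 := (hadj' p q).1 hq'.2.1
      refine ⟨⟨?_, (hcom q hq2 hq2).symm.trans hq'.2.2⟩, ?_⟩
      · rw [← hEa, ← hE]; exact (L.e.symm q).2
      · rw [← hEc, ← hE]; exact hq'.1
    · have e' := congrArg Subtype.val (E.injective e)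
      exact L.e.symm.injective (Subtype.ext e')
    · simp only [Finset.mem_filter, Finset.mem_univ, true_and] at hi
      have hra : R a (E.symm i : Ω) := by
        have := hi.1.1
        rwa [← hEa, ← E.apply_symm_apply i, ← hE] at this
      have hrc : R c (E.symm i : Ω) := by
        have := hi.2
        rwa [← hEc, ← E.apply_symm_apply i, ← hE] at this
      have hadjq : R (L.e.symm p : Ω) (L.e.symm (L.e ⟨_, hra⟩) : Ω) := by
        rw [Equiv.symm_apply_apply]; exact (E.symm i).2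
      have hEq : E ⟨(L.e.symm (L.e ⟨_, hra⟩) : Ω), hadjq⟩ = i := by
        refine (congrArg E (Subtype.ext ?_)).trans (E.apply_symm_apply i)
        simp
      refine ⟨L.e ⟨_, hra⟩, ?_, hEq⟩
      simp only [Finset.mem_filter, Finset.mem_univ, true_and]
      refine ⟨by rw [Equiv.symm_apply_apply]; exact hrc, (hadj' p _).2 hadjq, ?_⟩
      rw [hcom _ hadjq hadjq, hEq]
      exact hi.1.2
  · obtain ⟨E, hE, ⟨ha, hEa⟩, ⟨hc', hEc⟩, -⟩ := transport d L p hp
    have hq2 := (hadj' p q).1 hpq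
    let t := E ⟨_, hq2⟩
    have ht1 : Alj 0 t := by rw [← hEa, ← hE]; exact (L.e.symm q).2
    have ht2 : Alj away t := by rw [← hEc, ← hE]; exact hq
    have hbit : ∀ r : Fin 1755, comM.testBit r = true ↔ Alj 0 r ∧ Alj away r := fun r => by
      rw [beq_iff_eq.1 (allF_iff.1 comM_ok.1 r r.2), Bool.and_eq_true, ← away_val]
      exact Iff.rfl
    have h := allF_iff.1 quad_ok t t.2
    rw [(hbit t).2 ⟨ht1, ht2⟩, Bool.not_true, Bool.false_or, Bool.not_eq_true', Bool.eq_false_iff] at h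
    intro hcard
    apply h
    rw [Nat.beq_eq, ← hcard, ← card_filter_range (p := fun s : Fin 1755 => (Alj 0 s ∧ Alj away s) ∧ Alj t s)
      fun s => by rw [Bool.and_eq_true, hbit]; exact Iff.rfl]
    have e1 : (Finset.univ.filter fun r => R c (L.e.symm r : Ω) ∧ Alj p r ∧ Alj q r).card =
        (Finset.univ.filter fun z => R a z ∧ R c z ∧ R (L.e.symm p : Ω) z ∧ R (L.e.symm q : Ω) z).card := by
      rw [nbr_card L.e fun z => R c z ∧ R (L.e.symm p : Ω) z ∧ R (L.e.symm q : Ω) z]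
      exact card_iff (fun r => by rw [hadj', hadj'])
    have e2 : (Finset.univ.filter fun s : Fin 1755 => (Alj 0 s ∧ Alj away s) ∧ Alj t s).card =
        (Finset.univ.filter fun z => R (L.e.symm p : Ω) z ∧ (R a z ∧ R c z) ∧ R (L.e.symm q : Ω) z).card := by
      rw [nbr_card E fun z => (R a z ∧ R c z) ∧ R (L.e.symm q : Ω) z]
      refine card_iff (fun s => ?_)
      rw [← hEa, ← hEc]
      rw [show R a (E.symm s : Ω) ↔ Alj (E ⟨a, ha⟩) s from (hE ⟨a, ha⟩ (E.symm s)).trans (by rw [Equiv.apply_symm_apply]),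
        show R c (E.symm s : Ω) ↔ Alj (E ⟨c, hc'⟩) s from (hE ⟨c, hc'⟩ (E.symm s)).trans (by rw [Equiv.apply_symm_apply]),
        show R (L.e.symm q : Ω) (E.symm s : Ω) ↔ Alj t s from (hE ⟨_, hq2⟩ (E.symm s)).trans (by rw [Equiv.apply_symm_apply])]
    rw [e2, e1]
    exact card_iff (fun z => ⟨fun h => ⟨h.2.1.1, h.2.1.2, h.1, h.2.2⟩,
      fun h => ⟨h.2.2.1, ⟨h.1, h.2.1⟩, h.2.2.2⟩⟩)

/-- A distant point whose neighbours among the neighbours of `a` are those of the first distant line. -/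
theorem exists_standard [MulAction.IsPretransitive G Ω] (d : GraphData G a b c R)
    (hc : (MulAction.orbit (MulAction.stabilizer G a) c).ncard = 2304) (L : NearLabel G a R) :
    ∃ k : MulAction.stabilizer G a, ∀ i, R (k • c) (L.e.symm i : Ω) ↔ Mu f0 i := by
  let A := MulAction.stabilizer G a
  obtain ⟨-, hμ⟩ := L.adjacency d
  obtain ⟨z, hz⟩ := Finset.card_pos.1 (show 0 < (Finset.univ.filter fun z => R a z ∧ R c z).card by omega)
  simp only [Finset.mem_filter, Finset.mem_univ, true_and] at hz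
  obtain ⟨u, hu⟩ := trans_all (L.e ⟨z, hz.1⟩)
  obtain ⟨k0, hk0⟩ := L.θ.surjective u⁻¹
  have hp : R (k0 • c) (L.e.symm 0 : Ω) := by
    have e : (0 : Fin 1755) = loc (L.θ k0) (L.e ⟨z, hz.1⟩) := by
      rw [hk0, map_inv, eq_comm, Equiv.Perm.inv_eq_iff_eq, hu]
    rw [e, L.symm_smul d, Equiv.symm_apply_apply]
    exact (d.inv (k0 : G) c z).2 hz.2
  have d1 := d.move k0
  have hc1 : (MulAction.orbit A (k0 • c)).ncard = 2304 := by rw [MulAction.orbit_smul]; exact hc
  suffices h : ∀ c1, GraphData G a b c1 R → (MulAction.orbit A c1).ncard = 2304 →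
      R c1 (L.e.symm 0 : Ω) → ∃ k : A, ∀ i, R (k • c1) (L.e.symm i : Ω) ↔ Mu f0 i by
    obtain ⟨k, hk⟩ := h _ d1 hc1 hp
    exact ⟨k * k0, fun i => by rw [mul_smul]; exact hk i⟩
  intro c1 d1 hc1 hp
  let M : Subgroup K := (MulAction.stabilizer A c1).map L.θ.toMonoidHom
  have hM : Nat.card M = 15600 := by
    have h := (MulAction.stabilizer A c1).card_mul_index
    rw [MulAction.index_stabilizer, hc1, Nat.card_congr L.θ.toEquiv, card_K] at h
    rw [Nat.card_congr ((MulAction.stabilizer A c1).equivMapOfInjective _ L.θ.injective).symm.toEquiv]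
    omega
  have hfix0 : ∀ k : A, L.θ k ∈ J ↔ k • (L.e.symm 0 : Ω) = L.e.symm 0 := by
    intro k
    rw [mem_J, ← L.symm_smul d1]
    exact ⟨fun e => by rw [e], fun e => L.e.symm.injective (Subtype.ext e)⟩
  have hMJ : Nat.card ↥(M ⊓ J) = 20 := by
    obtain ⟨E, -, -, -, h20⟩ := transport d1 L 0 hp
    rw [← h20]
    let f : {h : G // h • a = a ∧ h • c1 = c1 ∧ h • (L.e.symm 0 : Ω) = L.e.symm 0} → ↥(M ⊓ J) := fun h =>
      ⟨L.θ ⟨h.1, h.2.1⟩, Subgroup.mem_map_of_mem _ h.2.2.1, (hfix0 _).2 h.2.2.2⟩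
    refine (Nat.card_congr (Equiv.ofBijective f ⟨fun h h' e => ?_, fun x => ?_⟩)).symm
    · exact Subtype.ext (congrArg (fun k : A => (k : G)) (L.θ.injective (congrArg Subtype.val e)))
    · obtain ⟨x, hxM, hxJ⟩ := x
      obtain ⟨k, hk, rfl⟩ := Subgroup.mem_map.1 hxM
      exact ⟨⟨(k : G), k.2, hk, (hfix0 k).1 hxJ⟩, Subtype.ext rfl⟩
  obtain ⟨j, hj, X, hX7, hgen⟩ := exists_sub100 M hM hMJ
  obtain ⟨kj, rfl⟩ := L.θ.surjective j
  have d2 := d1.move kj
  have hp2 : R (kj • c1) (L.e.symm 0 : Ω) := by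
    rw [← (hfix0 kj).1 hj]
    exact (d1.inv (kj : G) c1 _).2 hp
  have hinv : ∀ g ∈ qGens X, ∀ i, R (kj • c1) (L.e.symm (loc (el g) i) : Ω) ↔ R (kj • c1) (L.e.symm i : Ω) := by
    intro g hg i
    obtain ⟨m, hm, hme⟩ := Subgroup.mem_map.1 (hgen g hg)
    have hm' : L.θ m = (L.θ kj)⁻¹ * el g * L.θ kj := hme
    obtain ⟨k, hk⟩ := L.θ.surjective (el g)
    have hkm : k = kj * m * kj⁻¹ := L.θ.injective (by rw [map_mul, map_mul, map_inv, hm', hk]; group)
    have hfix : k • kj • c1 = kj • c1 := by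
      rw [hkm, mul_smul, mul_smul, inv_smul_smul, show m • c1 = c1 from hm]
    rw [← hk, L.symm_smul d1]
    conv_lhs => rw [← hfix]
    exact d1.inv (k : G) _ _
  obtain ⟨hS, hquad⟩ := counts d2 L
  obtain ⟨v, hv, hSv⟩ := set_class hX7 hS hp2 hquad hinv
  obtain ⟨w, rfl⟩ := trans_far (v := v) hv
  obtain ⟨k3, hk3⟩ := L.θ.surjective w⁻¹
  refine ⟨k3 * kj, fun i => ?_⟩
  have e : (L.e.symm i : Ω) = k3 • (L.e.symm (loc w i) : Ω) := by
    rw [← L.symm_smul d1, hk3, ← Equiv.Perm.mul_apply, ← map_mul, inv_mul_cancel, map_one, Equiv.Perm.one_apply]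
  rw [mul_smul, e, show R (k3 • kj • c1) (k3 • (L.e.symm (loc w i) : Ω)) ↔ R (kj • c1) (L.e.symm (loc w i) : Ω)
    from d1.inv (k3 : G) _ _]
  exact (hSv (loc w i)).trans (mu_loc w f0 i)

end CfsgLib.Sporadic.RuRank
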